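import Groth.Agent.GRVan.Pair
import Groth.Prelude.Def_Found
import Mathlib

/-!
Uniform multipliers attached to a nonzero element of a two-dimensional normal Nagata domain.
-/

set_option autoImplicit false

universe u

open IsLocalRing

noncomputable section

namespace Groth.Agent.ExcVanish

variable {A : Type u} [CommRing A] [IsDomain A] [IsLocalRing A] [IsNoetherianRing A] [IsIntegrallyClosed A]

/-- a prime strictly containing a minimal prime over a nonzero element is maximal -/
theorem eq_maximal_of_lt (hdim : ringKrullDim A = 2) {x : A} (hx0 : x ≠ 0) {P q : Ideal A}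
    (hP : P ∈ (Ideal.span {x}).minimalPrimes) (hq : q.IsPrime) (hlt : P < q) : q = maximalIdeal A := by
  by_contra hqm
  haveI := hP.1.1
  haveI := hq
  have hlt' : q < maximalIdeal A := lt_of_le_of_ne (le_maximalIdeal hq.ne_top) hqm
  have h1 : P.height + 1 ≤ q.height := Ideal.height_add_one_le_of_lt_of_isPrime hlt
  have h2 : q.height + 1 ≤ (maximalIdeal A).height := Ideal.height_add_one_le_of_lt_of_isPrime hlt'
  have h3 : (⊥ : Ideal A) < P := bot_lt_iff_ne_bot.2 fun e => hx0 (by
    have := hP.1.2 (Ideal.subset_span (Set.mem_singleton x))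
    rw [e] at this
    exact this)
  have h4 : (⊥ : Ideal A).height + 1 ≤ P.height := Ideal.height_add_one_le_of_lt_of_isPrime h3
  have h5 : ((maximalIdeal A).height : WithBot ℕ∞) = ((2 : ℕ∞) : WithBot ℕ∞) := by
    rw [maximalIdeal_height_eq_ringKrullDim, hdim]; rfl
  rw [WithBot.coe_inj] at h5
  rw [h5] at h2
  have : (⊥ : Ideal A).height + 1 + 1 + 1 ≤ 2 :=
    ((add_le_add_left (add_le_add_left h4 1) 1).trans ((add_le_add_left h1 1).trans h2))
  rw [Ideal.height_bot] at this
  exact absurd this (by decide)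

theorem maximal_notMem_minimalPrimes (hdim : ringKrullDim A = 2) {x : A} :
    maximalIdeal A ∉ (Ideal.span {x}).minimalPrimes := fun h => by
  have h1 : ((maximalIdeal A).height : WithBot ℕ∞) ≤ ((1 : ℕ∞) : WithBot ℕ∞) :=
    WithBot.coe_le_coe.2 (Ideal.height_le_one_of_isPrincipal_of_mem_minimalPrimes (Ideal.span {x}) (maximalIdeal A) h)
  rw [maximalIdeal_height_eq_ringKrullDim, hdim] at h1
  exact absurd h1 (by decide)

/-- nonzerodivisors modulo a principal ideal -/
theorem dvd_of_notMem (hdim : ringKrullDim A = 2) {x : A} (hxm : x ∈ maximalIdeal A) (hx0 : x ≠ 0) {y : A}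
    (hy : ∀ P ∈ (Ideal.span {x}).minimalPrimes, y ∉ P) {c : A} (h : x ∣ y * c) : x ∣ c := by
  by_contra hc
  let M := A ⧸ Ideal.span {x}
  have hne : (Ideal.Quotient.mk (Ideal.span {x}) c : M) ≠ 0 := fun e =>
    hc (Ideal.mem_span_singleton.1 (Ideal.Quotient.eq_zero_iff_mem.1 e))
  obtain ⟨q, hq, hle⟩ := exists_le_isAssociatedPrime_of_isNoetherianRing A _ hne
  obtain ⟨hqp, v, hqv⟩ := isAssociatedPrime_iff.1 hq
  have hxq : x ∈ q := hle (Submodule.mem_colon_singleton.2 (by
    rw [Submodule.mem_bot, Algebra.smul_def, Ideal.Quotient.algebraMap_eq, ← map_mul,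
      Ideal.Quotient.eq_zero_iff_mem]
    exact Ideal.mem_span_singleton.2 (dvd_mul_right x c)))
  have hyq : y ∈ q := hle (Submodule.mem_colon_singleton.2 (by
    rw [Submodule.mem_bot, Algebra.smul_def, Ideal.Quotient.algebraMap_eq, ← map_mul,
      Ideal.Quotient.eq_zero_iff_mem]
    exact Ideal.mem_span_singleton.2 h))
  obtain ⟨y₀, hy₀, hy₀0, -⟩ := GRVan.exists_pair hdim hxm hx0
  have hy₀q : y₀ ∉ q := fun h0 => by
    obtain ⟨d, rfl⟩ := Ideal.Quotient.mk_surjective v
    have h1 : y₀ • (Ideal.Quotient.mk (Ideal.span {x}) d : M) = 0 := by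
      have := hqv ▸ h0
      exact (Submodule.mem_bot A).1 (Submodule.mem_colon_singleton.1 this)
    rw [Algebra.smul_def, Ideal.Quotient.algebraMap_eq, ← map_mul, Ideal.Quotient.eq_zero_iff_mem,
      Ideal.mem_span_singleton] at h1
    refine hqp.ne_top ?_
    rw [hqv, Ideal.eq_top_iff_one, Submodule.mem_colon_singleton, one_smul, Submodule.mem_bot,
      Ideal.Quotient.eq_zero_iff_mem]
    exact Ideal.mem_span_singleton.2 (hy₀0 d h1)
  obtain ⟨P, hP, hPq⟩ := Ideal.exists_minimalPrimes_le (J := q) ((Ideal.span_singleton_le_iff_mem _).2 hxq)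
  rcases eq_or_lt_of_le hPq with e | hlt
  · exact hy P hP (e ▸ hyq)
  · exact hy₀q (by rw [eq_maximal_of_lt hdim hx0 hP hqp hlt]; exact hy₀)

/-- The numerical and multiplier data of a nonzero element `a`. -/
structure Data (a : A) where
  S : Finset (Ideal A)
  mem_iff : ∀ P, P ∈ S ↔ P ∈ (Ideal.span {a}).minimalPrimes
  π : Ideal A → A
  n : Ideal A → ℕ
  U : Ideal A → A
  U' : Ideal A → A
  cond : Ideal A → A
  π_mem : ∀ P ∈ S, π P ∈ P
  π_notMem : ∀ P ∈ S, ∀ Q ∈ S, Q ≠ P → π P ∉ Q
  π_gen : ∀ P ∈ S, ∀ c ∈ P, ∃ u ∉ P, π P ∣ u * c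
  n_pos : ∀ P ∈ S, 1 ≤ n P
  U_notMem : ∀ P ∈ S, U P ∉ P
  U'_notMem : ∀ P ∈ S, U' P ∉ P
  rel : ∀ P ∈ S, a * U P = π P ^ n P * U' P
  gen_pow : ∀ P ∈ S, ∀ e : A, e ≠ 0 → ∃ (m : ℕ) (u u' : A), u ∉ P ∧ u' ∉ P ∧ e * u = π P ^ m * u'
  cond_notMem : ∀ P ∈ S, cond P ∉ P
  cond_spec : ∀ P ∈ S, ∀ (c d : A) (f : Polynomial A), d ∉ P → f.Monic →
    (∑ i ∈ Finset.range (f.natDegree + 1), f.coeff i * c ^ i * d ^ (f.natDegree - i)) ∈ P →
      ∃ b : A, cond P * c - d * b ∈ P

open Finset in
theorem nonempty_data (hdim : ringKrullDim A = 2) (hN : CAlg.IsNagata A) {a : A} (ha : a ∈ maximalIdeal A)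
    (ha0 : a ≠ 0) : Nonempty (Data a) := by
  classical
  have hfin := (Ideal.span {a}).finite_minimalPrimes_of_isNoetherianRing
  let S := hfin.toFinset
  have hS : ∀ P, P ∈ S ↔ P ∈ (Ideal.span {a}).minimalPrimes := fun P => hfin.mem_toFinset
  have key : ∀ P ∈ S, ∃ (π : A) (n : ℕ) (U U' c : A), π ∈ P ∧ (∀ Q ∈ S, Q ≠ P → π ∉ Q) ∧
      (∀ e ∈ P, ∃ u ∉ P, π ∣ u * e) ∧ 1 ≤ n ∧ U ∉ P ∧ U' ∉ P ∧ a * U = π ^ n * U' ∧ (∀ e : A, e ≠ 0 → ∃ (m : ℕ) (u u' : A), u ∉ P ∧ u' ∉ P ∧ e * u = π ^ m * u') ∧ c ∉ P ∧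
      ∀ (e d : A) (f : Polynomial A), d ∉ P → f.Monic →
        (∑ i ∈ Finset.range (f.natDegree + 1), f.coeff i * e ^ i * d ^ (f.natDegree - i)) ∈ P →
          ∃ b : A, c * e - d * b ∈ P := by
    intro P hP
    have hPm := (hS P).1 hP
    haveI hPp : P.IsPrime := hPm.1.1
    have hP0 : P ≠ ⊥ := fun e => ha0 (by
      have := hPm.1.2 (Ideal.subset_span (Set.mem_singleton a))
      rw [e] at this
      exact this)
    have haP : a ∈ P := hPm.1.2 (Ideal.subset_span (Set.mem_singleton a))
    let R := Localization.AtPrime P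
    haveI : IsDiscreteValuationRing R := by
      have hd : ringKrullDim R = 1 := by
        rw [IsLocalization.AtPrime.ringKrullDim_eq_height P R]
        have h1 : P.height ≤ 1 := Ideal.height_le_one_of_isPrincipal_of_mem_minimalPrimes (Ideal.span {a}) P hPm
        have h2 : (⊥ : Ideal A).height + 1 ≤ P.height :=
          Ideal.height_add_one_le_of_lt_of_isPrime (bot_lt_iff_ne_bot.2 hP0)
        rw [Ideal.height_bot, zero_add] at h2
        rw [le_antisymm h1 h2]; rfl
      haveI : IsIntegrallyClosed R := isIntegrallyClosed_of_isLocalization R P.primeCompl P.primeCompl_le_nonZeroDivisors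
      haveI : IsNoetherianRing R := IsLocalization.isNoetherianRing P.primeCompl R inferInstance
      have hnf : ¬ IsField R := fun h => by
        rw [ringKrullDim_eq_zero_of_isField h] at hd
        exact zero_ne_one hd
      haveI : Ring.DimensionLEOne R := ⟨fun {p} hp hprime =>
        (Ring.krullDimLE_one_iff_of_isPrime_bot.1 (Ring.krullDimLE_iff.2 hd.le)) p hp hprime⟩
      haveI : IsDedekindRing R := { }
      haveI : IsDedekindDomain R := { }
      exact ((IsDiscreteValuationRing.TFAE R hnf).out 0 2).2 (inferInstance : IsDedekindDomain R)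
    obtain ⟨ϖ, hϖ⟩ := IsDiscreteValuationRing.exists_irreducible R
    obtain ⟨π, hπP, hπ2, hπQ⟩ : ∃ π ∈ P, ¬ (algebraMap A R π ∈ maximalIdeal R ^ 2) ∧ ∀ Q ∈ S, Q ≠ P → π ∉ Q := by
      let P2 : Ideal A := (maximalIdeal R ^ 2).comap (algebraMap A R)
      by_contra! hcon
      have hsub : (P : Set A) ⊆ ⋃ Q ∈ (↑(insert P2 (S.erase P)) : Set (Ideal A)), (id Q : Ideal A) := fun e he => by
        by_cases h2 : algebraMap A R e ∈ maximalIdeal R ^ 2
        · exact Set.mem_iUnion₂.2 ⟨P2, by simp, h2⟩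
        · obtain ⟨Q, hQ, hQP, heQ⟩ := hcon e he h2
          exact Set.mem_iUnion₂.2 ⟨Q, by simp [hQ, hQP], heQ⟩
      obtain ⟨Q, hQ, hle⟩ := (Ideal.subset_union_prime P2 P2 fun Q hQ hne _ => by
        rcases Finset.mem_insert.1 hQ with h | h
        · exact absurd h hne
        · exact ((hS Q).1 (Finset.mem_of_mem_erase h)).1.1).1 hsub
      rcases Finset.mem_insert.1 hQ with h | h
      · rw [show (id Q : Ideal A) = P2 from h] at hle
        have h1 : maximalIdeal R ≤ maximalIdeal R ^ 2 := by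
          rw [← Localization.AtPrime.map_eq_maximalIdeal, Ideal.map_le_iff_le_comap, Localization.AtPrime.map_eq_maximalIdeal]
          exact hle
        rw [hϖ.maximalIdeal_eq, Ideal.span_singleton_pow, Ideal.span_singleton_le_span_singleton] at h1
        obtain ⟨w, hw⟩ := h1
        refine hϖ.not_isUnit (IsUnit.of_mul_eq_one w (mul_left_cancel₀ hϖ.ne_zero ?_))
        rw [mul_one]
        linear_combination hw.symm
      · obtain ⟨hne, hQS⟩ := Finset.mem_erase.1 h
        haveI := ((hS Q).1 hQS).1.1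
        refine maximal_notMem_minimalPrimes hdim (x := a) ?_
        exact (eq_maximal_of_lt hdim ha0 hPm ((hS Q).1 hQS).1.1 (lt_of_le_of_ne hle (Ne.symm hne))) ▸ (hS Q).1 hQS
    obtain ⟨k, w, hw⟩ := IsDiscreteValuationRing.eq_unit_mul_pow_irreducible (x := algebraMap A R π)
      (fun e => hπ2 (by rw [e]; exact Ideal.zero_mem _)) hϖ
    have hk : k = 1 := by
      have hk0 : k ≠ 0 := fun e => by
        rw [e, pow_zero, mul_one] at hw
        exact (IsLocalization.AtPrime.isUnit_to_map_iff R P π).1 (hw ▸ w.isUnit) hπP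
      by_contra hk1
      refine hπ2 ?_
      rw [hw, hϖ.maximalIdeal_eq]
      exact Ideal.mul_mem_left _ _ (Ideal.pow_le_pow_right (show 2 ≤ k by omega)
        (Ideal.pow_mem_pow (Ideal.mem_span_singleton_self ϖ) k))
    subst hk
    rw [pow_one] at hw
    -- clearing denominators
    have hgen : ∀ e : A, e ≠ 0 → ∃ (m : ℕ) (u u' : A), u ∉ P ∧ u' ∉ P ∧ e * u = π ^ m * u' := by
      intro e he
      obtain ⟨m, v, hv⟩ := IsDiscreteValuationRing.eq_unit_mul_pow_irreducible (x := algebraMap A R e)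
        (fun h => he (IsLocalization.injective R P.primeCompl_le_nonZeroDivisors (h.trans (map_zero _).symm))) hϖ
      obtain ⟨⟨c₁, s⟩, hcs⟩ := IsLocalization.surj P.primeCompl ((v * (w⁻¹ : Rˣ) ^ m : Rˣ) : R)
      have hc₁ : c₁ ∉ P := (IsLocalization.AtPrime.isUnit_to_map_iff R P c₁).1
        (hcs ▸ ((v * (w⁻¹ : Rˣ) ^ m).isUnit.mul (IsLocalization.map_units R s)))
      refine ⟨m, s, c₁, s.2, hc₁, IsLocalization.injective R P.primeCompl_le_nonZeroDivisors ?_⟩
      rw [map_mul, map_mul, map_pow, ← hcs, hv, hw]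
      simp only [Units.val_mul, Units.val_pow_eq_pow_val, mul_pow]
      have hww : ((w : R)) * ((w⁻¹ : Rˣ) : R) = 1 := Units.mul_inv w
      calc (v : R) * ϖ ^ m * algebraMap A R s
          = (v : R) * ((w : R) * ((w⁻¹ : Rˣ) : R)) ^ m * ϖ ^ m * algebraMap A R s := by rw [hww, one_pow, mul_one]
        _ = _ := by rw [mul_pow]; ring
    obtain ⟨n, U, U', hU, hU', hrel⟩ := hgen a ha0
    have hn : 1 ≤ n := Nat.pos_of_ne_zero fun e => by
      rw [e, pow_zero, one_mul] at hrel
      exact hU' (hrel ▸ P.mul_mem_right U haP)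
    -- the conductor of the curve
    let B := A ⧸ P
    let K := FractionRing B
    haveI : Module.Finite A ↥(integralClosure B K) := by
      haveI : Module.Finite B ↥(integralClosure B K) := hN.2 P K inferInstance
      exact Module.Finite.trans B _
    obtain ⟨T, hT⟩ := Module.Finite.fg_top (R := A) (M := ↥(integralClosure B K))
    have hden : ∀ v : ↥(integralClosure B K), ∃ d : A, d ∉ P ∧ ∃ b : A,
        algebraMap B K (Ideal.Quotient.mk P d) * (v : K) = algebraMap B K (Ideal.Quotient.mk P b) := fun v => by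
      obtain ⟨⟨b, s⟩, hbs⟩ := IsLocalization.surj (nonZeroDivisors B) (v : K)
      obtain ⟨b, rfl⟩ := Ideal.Quotient.mk_surjective b
      obtain ⟨d, hd⟩ := Ideal.Quotient.mk_surjective (s : B)
      refine ⟨d, fun h => nonZeroDivisors.ne_zero s.2 (hd ▸ Ideal.Quotient.eq_zero_iff_mem.2 h), b, ?_⟩
      rw [hd, mul_comm]; exact hbs
    choose den hden hnum using hden
    choose num hnum using hnum
    let c := ∏ v ∈ T, den v
    have hc : c ∉ P := fun h => by
      obtain ⟨v, -, hv⟩ := (hPp.prod_mem_iff).1 h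
      exact hden v hv
    have hclear : ∀ v : ↥(integralClosure B K), ∃ b : A,
        algebraMap B K (Ideal.Quotient.mk P c) * (v : K) = algebraMap B K (Ideal.Quotient.mk P b) := fun v => by
      have hv : v ∈ Submodule.span A (T : Set ↥(integralClosure B K)) := hT ▸ Submodule.mem_top
      induction hv using Submodule.span_induction with
      | mem v hv =>
        refine ⟨(∏ v' ∈ T.erase v, den v') * num v, ?_⟩
        rw [show c = (∏ v' ∈ T.erase v, den v') * den v from (Finset.prod_erase_mul _ _ hv).symm, map_mul, map_mul,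
          mul_assoc, hnum, ← map_mul, ← map_mul]
      | zero => exact ⟨0, by simp⟩
      | add v v' _ _ hv hv' =>
        obtain ⟨b, hb⟩ := hv
        obtain ⟨b', hb'⟩ := hv'
        exact ⟨b + b', by rw [map_add, map_add, ← hb, ← hb', ← mul_add]; rfl⟩
      | smul r v _ hv =>
        obtain ⟨b, hb⟩ := hv
        refine ⟨r * b, ?_⟩
        rw [map_mul, map_mul, ← hb]
        show _ * ((r • v : ↥(integralClosure B K)) : K) = _
        rw [show ((r • v : ↥(integralClosure B K)) : K) = algebraMap A K r * (v : K) from Algebra.smul_def r (v : K),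
          IsScalarTower.algebraMap_apply A B K r, Ideal.Quotient.algebraMap_eq]
        ring
    refine ⟨π, n, U, U', c, hπP, hπQ, fun e he => ?_, hn, hU, hU', hrel, hgen, hc, fun e d f hd hf hsum => ?_⟩
    · by_cases he0 : e = 0
      · exact ⟨1, hPp.one_notMem, by rw [he0, mul_zero]; exact dvd_zero π⟩
      obtain ⟨m, u, u', hu, hu', hm⟩ := hgen e he0
      have hm0 : m ≠ 0 := fun h => by
        rw [h, pow_zero, one_mul] at hm
        exact hu' (hm ▸ P.mul_mem_right u he)
      exact ⟨u, hu, by rw [mul_comm, hm]; exact Dvd.dvd.mul_right (dvd_pow_self π hm0) u'⟩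
    · have hd' : (algebraMap B K (Ideal.Quotient.mk P d)) ≠ 0 := fun h =>
        hd (Ideal.Quotient.eq_zero_iff_mem.1 (IsFractionRing.injective B K (h.trans (map_zero _).symm)))
      let r : K := algebraMap B K (Ideal.Quotient.mk P e) / algebraMap B K (Ideal.Quotient.mk P d)
      have hr : IsIntegral B r := by
        refine ⟨f.map (Ideal.Quotient.mk P), hf.map _, ?_⟩
        rw [Polynomial.eval₂_map]
        let φ : A →+* K := (algebraMap B K).comp (Ideal.Quotient.mk P)
        show Polynomial.eval₂ φ r f = 0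
        refine (mul_eq_zero.1 (?_ : (φ d) ^ f.natDegree * Polynomial.eval₂ φ r f = 0)).resolve_left (pow_ne_zero _ hd')
        rw [Polynomial.eval₂_eq_sum_range, Finset.mul_sum]
        have h0 : φ (∑ i ∈ Finset.range (f.natDegree + 1), f.coeff i * e ^ i * d ^ (f.natDegree - i)) = 0 := by
          show algebraMap B K (Ideal.Quotient.mk P _) = 0
          rw [Ideal.Quotient.eq_zero_iff_mem.2 hsum, map_zero]
        rw [map_sum] at h0
        refine Eq.trans (Finset.sum_congr rfl fun i hi => ?_) h0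
        have hi' : i ≤ f.natDegree := by rw [Finset.mem_range] at hi; omega
        rw [map_mul, map_mul, map_pow, map_pow]
        calc φ d ^ f.natDegree * (φ (f.coeff i) * r ^ i)
            = φ (f.coeff i) * (φ d ^ (f.natDegree - i) * (φ d * r) ^ i) := by
              rw [mul_pow, ← mul_assoc (φ d ^ (f.natDegree - i)), ← pow_add, Nat.sub_add_cancel hi']; ring
          _ = φ (f.coeff i) * (φ d ^ (f.natDegree - i) * φ e ^ i) := by
              rw [show φ d * r = φ e from mul_div_cancel₀ _ hd']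
          _ = _ := by ring
      obtain ⟨b, hb⟩ := hclear ⟨r, hr⟩
      refine ⟨b, Ideal.Quotient.eq_zero_iff_mem.1 (IsFractionRing.injective B K ?_)⟩
      rw [map_sub, map_mul, map_mul, map_sub, map_mul, map_mul, map_zero, ← hb, sub_eq_zero]
      show _ = _ * (_ * r)
      rw [mul_left_comm, mul_div_cancel₀ _ hd']
  choose π n U U' c h1 h2 h3 h4 h5 h6 h7 h7' h8 h9 using key
  refine ⟨{ S := S, mem_iff := hS
            π := fun P => if h : P ∈ S then π P h else 0
            n := fun P => if h : P ∈ S then n P h else 0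
            U := fun P => if h : P ∈ S then U P h else 0
            U' := fun P => if h : P ∈ S then U' P h else 0
            cond := fun P => if h : P ∈ S then c P h else 0
            π_mem := ?_, π_notMem := ?_, π_gen := ?_, n_pos := ?_, U_notMem := ?_, U'_notMem := ?_, rel := ?_, gen_pow := ?_,
            cond_notMem := ?_, cond_spec := ?_ }⟩ <;> intro P hP <;> simp only [dif_pos hP]
  exacts [h1 P hP, h2 P hP, h3 P hP, h4 P hP, h5 P hP, h6 P hP, h7 P hP, h7' P hP, h8 P hP, h9 P hP]

end Groth.Agent.ExcVanish
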