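import Groth.Agent.ExcVanish.Module
import Groth.Agent.PicBdd.Resolve

/-!
Sections of `O/aO` killed by the maximal ideal of a normal modification vanish.
-/

set_option autoImplicit false
set_option backward.isDefEq.respectTransparency false
set_option linter.style.haveILetI false

universe u

open CategoryTheory CategoryTheory.Limits AlgebraicGeometry TopologicalSpace Opposite
open Groth.Agent.QC (res resO res_res res_self res_smul resO_resO app_res section_eq_of_locally)

noncomputable section

namespace Groth.Agent.ExcVanish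

theorem nonempty_top {X : Scheme.{u}} [IsIntegral X] : Nonempty (⊤ : X.Opens) := ⟨⟨genericPoint X, trivial⟩⟩

attribute [local instance] nonempty_top

/-- functions of the base as global functions -/
def glob {A : Type u} [CommRing A] {X : Scheme.{u}} (f : X ⟶ Spec (CommRingCat.of A)) : A →+* Γ(X, ⊤) :=
  (f.appTop).hom.comp (Scheme.ΓSpecIso (CommRingCat.of A)).inv.hom

theorem mem_basicOpen_glob {A : Type u} [CommRing A] {X : Scheme.{u}} (f : X ⟶ Spec (CommRingCat.of A)) (a : A)
    (x : X) : x ∈ X.basicOpen (glob f a) ↔ a ∉ (f x).asIdeal := by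
  have h : X.basicOpen (glob f a) = f ⁻¹ᵁ (Spec (CommRingCat.of A)).basicOpen
      ((Scheme.ΓSpecIso (CommRingCat.of A)).inv a) := (Scheme.preimage_basicOpen f _).symm
  rw [h, AlgebraicGeometry.basicOpen_eq_of_affine]
  exact Iff.rfl

variable {A : Type u} [CommRing A] [IsDomain A] [IsLocalRing A] [IsNoetherianRing A] [IsIntegrallyClosed A]
  (hdim : ringKrullDim A = 2) {X : Scheme.{u}} (f : X ⟶ Spec (CommRingCat.of A)) [IsProper f] [IsIntegral X]
  (hbir : ∃ U : (Spec (CommRingCat.of A)).Opens, (U : Set (Spec (CommRingCat.of A))).Nonempty ∧ IsIso (f ∣_ U))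
  (hn : Pi1.IsNormalScheme X)

include hbir in
theorem germ_glob_ne_zero {a : A} (ha : a ≠ 0) : X.germToFunctionField ⊤ (glob f a) ≠ 0 := by
  obtain ⟨U, hU, hUi⟩ := hbir
  haveI := hUi
  have hAn : Pi1.IsNormalScheme (Spec (CommRingCat.of A)) := RatBlow.isNormal_spec
  have hbij := PtBlow.bijective_app_of_birational f hAn U hU
  obtain ⟨w, hw⟩ := (PtBlow.isConnected_preimage f hbij
    (⟨⊥, Ideal.isPrime_bot⟩ : PrimeSpectrum A)).nonempty
  have hmem : genericPoint X ∈ X.basicOpen (glob f a) := by
    have hwa : w ∈ X.basicOpen (glob f a) := by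
      rw [mem_basicOpen_glob, show f w = _ from hw]
      exact fun h => ha ((Ideal.mem_bot).1 h)
    exact ((genericPoint_spec X).mem_open_set_iff (X.basicOpen (glob f a)).2).2 ⟨w, trivial, hwa⟩
  exact ((Scheme.mem_basicOpen X (glob f a) (genericPoint X) trivial).1 hmem).ne_zero

include hbir in
theorem mono_scal {a : A} (ha : a ≠ 0) : Mono (PicBdd.scal (glob f a) (Coh.structureModule X)) := by
  have hα0 := germ_glob_ne_zero f hbir ha
  refine (Groth.Agent.QC.mono_iff_app_injective _).2 fun W x y h => ?_
  refine section_eq_of_locally fun z hz => ⟨W, le_rfl, hz, ?_⟩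
  haveI : Nonempty W := ⟨⟨z, hz⟩⟩
  rw [res_self, res_self]
  refine X.germToFunctionField_injective W (mul_left_cancel₀ hα0 ?_)
  have e : ∀ v : Γ(X, W), X.germToFunctionField ⊤ (glob f a) * X.germToFunctionField W v =
      X.germToFunctionField W (show Γ(X, W) from (PicBdd.scal (glob f a) (Coh.structureModule X)).app W v) :=
    fun v => (congrArg (· * X.germToFunctionField W v) (res_germTo (le_top : W ≤ ⊤) _)).symm.trans
      (map_mul (X.germToFunctionField W).hom (X.presheaf.map (homOfLE (le_top : W ≤ ⊤)).op (glob f a)) v).symm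
  exact ((e (show Γ(X, W) from x)).trans
    (congrArg (fun s => X.germToFunctionField W (show Γ(X, W) from s)) h)).trans (e (show Γ(X, W) from y)).symm

include hdim hbir hn in
/-- the `m`-socle of `H⁰(O/aO)` vanishes -/
theorem socle_cokernel_scal_eq_zero {a : A} (ha : a ≠ 0)
    (σ : Γ(cokernel (PicBdd.scal (glob f a) (Coh.structureModule X)), ⊤))
    (hσ : ∀ c ∈ IsLocalRing.maximalIdeal A, glob f c • σ = 0) : σ = 0 := by
  classical
  revert σ
  set i := PicBdd.scal (glob f a) (Coh.structureModule X) with hi
  intro σ hσ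
  set α := X.germToFunctionField ⊤ (glob f a) with hα
  have hα0 : α ≠ 0 := germ_glob_ne_zero f hbir ha
  have hgl : ∀ (W : X.Opens) [Nonempty W] (c : A),
      X.germToFunctionField W (X.presheaf.map (homOfLE (le_top : W ≤ ⊤)).op (glob f c)) =
        X.germToFunctionField ⊤ (glob f c) := fun W _ c => res_germTo le_top _
  have hgi : ∀ (W : X.Opens) [Nonempty W] (h : Γ(X, W)),
      X.germToFunctionField W (show Γ(X, W) from i.app W h) = α * X.germToFunctionField W h := fun W _ h =>
    (map_mul (X.germToFunctionField W).hom (X.presheaf.map (homOfLE (le_top : W ≤ ⊤)).op (glob f a)) h).trans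
      (congrArg (· * X.germToFunctionField W h) (hgl W a))
  haveI : Mono i := mono_scal f hbir ha
  choose V hV hxV l hl using fun z : X => TMul.exists_app_eq_of_epi (cokernel.π i) (U := ⊤) σ (x := z) trivial
  haveI hN : ∀ z, Nonempty (V z) := fun z => ⟨⟨z, hxV z⟩⟩
  let g : ∀ z, Γ(X, V z) := fun z => l z
  let t : X → X.functionField := fun z => X.germToFunctionField (V z) (g z) / α
  have hkey := regular_of_polar_modification hdim f hbir hn V (fun z => ⟨z, hxV z⟩) t
    (fun z w hw hwE => by
      obtain ⟨c, hc, hcw⟩ : ∃ c ∈ IsLocalRing.maximalIdeal A, c ∉ (f w).asIdeal := SetLike.not_le_iff_exists.1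
        fun hle => hwE (PrimeSpectrum.ext ((IsLocalRing.le_maximalIdeal (f w).isPrime.ne_top).antisymm hle))
      have hd : (cokernel.π i).app (V z) (resO X (le_top : V z ≤ ⊤) (glob f c) • l z) = 0 := by
        rw [TMul.app_smul, hl, ← res_smul, hσ c hc, map_zero]
      obtain ⟨h, hh⟩ := exists_app_eq_of_cokernel i (V z) _ hd
      obtain ⟨p, hp⟩ : ∃ p : (X.presheaf.stalk w)ˣ, (p : X.presheaf.stalk w) =
          X.presheaf.germ ⊤ w trivial (glob f c) := by
        have := (mem_basicOpen_glob f c w).2 hcw
        replace this := (Scheme.mem_basicOpen X (glob f c) w trivial).1 this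
        exact ⟨this.unit, rfl⟩
      refine ⟨X.presheaf.germ (V z) w hw h * ↑p⁻¹, ?_⟩
      have e : α * X.germToFunctionField (V z) (show Γ(X, V z) from h) =
          X.germToFunctionField ⊤ (glob f c) * X.germToFunctionField (V z) (g z) := by
        refine ((hgi (V z) (show Γ(X, V z) from h)).symm.trans
          (congrArg (fun s => X.germToFunctionField (V z) (show Γ(X, V z) from s)) hh)).trans ?_
        exact (map_mul (X.germToFunctionField (V z)).hom _ (g z)).trans
          (congrArg (· * _) (hgl (V z) c))
      have hp' : algebraMap (X.presheaf.stalk w) X.functionField p = X.germToFunctionField ⊤ (glob f c) := by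
        rw [hp]; exact algebraMap_germ (U := ⊤) trivial _
      have hp0 : algebraMap (X.presheaf.stalk w) X.functionField p ≠ 0 :=
        (p.isUnit.map (algebraMap (X.presheaf.stalk w) X.functionField)).ne_zero
      rw [map_mul, map_units_inv, hp']
      refine (congrArg (· * _) (algebraMap_germ (U := V z) hw (show Γ(X, V z) from h))).trans ?_
      rw [hp'] at hp0
      rw [eq_div_iff hα0, mul_comm (X.germToFunctionField (V z) _), mul_assoc,
        mul_comm (X.germToFunctionField (V z) (show Γ(X, V z) from h)) α, e, ← mul_assoc, inv_mul_cancel₀ hp0, one_mul])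
    (fun a' b w hwa hwb => by
      let W : X.Opens := V a' ⊓ V b
      haveI : Nonempty W := ⟨⟨w, hwa, hwb⟩⟩
      have hd : (cokernel.π i).app W (res _ (inf_le_left : W ≤ V a') (l a') - res _ (inf_le_right : W ≤ V b) (l b)) = 0 := by
        rw [map_sub, ← app_res, ← app_res, hl, hl, res_res, res_res, sub_self]
      obtain ⟨h, hh⟩ := exists_app_eq_of_cokernel i W _ hd
      refine ⟨X.presheaf.germ W w ⟨hwa, hwb⟩ h, (algebraMap_germ (U := W) ⟨hwa, hwb⟩ (show Γ(X, W) from h)).trans ?_⟩
      rw [← sub_div, eq_div_iff hα0, mul_comm]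
      refine ((hgi W (show Γ(X, W) from h)).symm.trans
        (congrArg (fun s => X.germToFunctionField W (show Γ(X, W) from s)) hh)).trans ?_
      refine (map_sub (X.germToFunctionField W).hom _ _).trans ?_
      exact congrArg₂ (· - ·) (res_germTo (inf_le_left : W ≤ V a') (g a')) (res_germTo (inf_le_right : W ≤ V b) (g b)))
  refine section_eq_of_locally fun z _ => ⟨V z, hV z, hxV z, ?_⟩
  obtain ⟨G, hG⟩ := DomFib.exists_section (V z) (t z) (hkey z)
  have hlG : g z = (show Γ(X, V z) from i.app (V z) G) := by
    refine X.germToFunctionField_injective (V z) ?_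
    rw [hgi, hG]
    exact (mul_div_cancel₀ _ hα0).symm
  rw [map_zero, ← hl z]
  refine (congrArg ((cokernel.π i).app (V z)) hlG).trans ?_
  exact ConcreteCategory.congr_hom (congrArg (fun φ : Coh.structureModule X ⟶ cokernel i => φ.app (V z)) (cokernel.condition i))
    (show Γ(Coh.structureModule X, V z) from G)

end Groth.Agent.ExcVanish
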