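import Groth.Agent.ExcVanish.BoundAlg
import Groth.Agent.ExcVanish.Torsion

/-!
Uniform multipliers making polar parts of a normal modification come from the base.
-/

set_option autoImplicit false
set_option backward.isDefEq.respectTransparency false
set_option backward.isDefEq.respectTransparency.types false
set_option linter.style.haveILetI false

universe u

open CategoryTheory AlgebraicGeometry TopologicalSpace Opposite

noncomputable section

namespace Groth.Agent.ExcVanish

attribute [local instance] nonempty_top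

/-- functions of the base as rational functions -/
def gA {A : Type u} [CommRing A] {X : Scheme.{u}} [IsIntegral X] (f : X ⟶ Spec (CommRingCat.of A)) :
    A →+* X.functionField :=
  (X.germToFunctionField ⊤).hom.comp (glob f)

section general

variable {A : Type u} [CommRing A] {X : Scheme.{u}} [IsIntegral X] (f : X ⟶ Spec (CommRingCat.of A))

theorem algebraMap_germ_glob (x : X) (c : A) :
    algebraMap (X.presheaf.stalk x) X.functionField (X.presheaf.germ ⊤ x trivial (glob f c)) = gA f c :=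
  algebraMap_germ (U := ⊤) trivial _

theorem gA_mem (x : X) (c : A) : gA f c ∈ Rg x := ⟨_, algebraMap_germ_glob f x c⟩

theorem gA_vn {x : X} {c : A} (h : c ∈ (f x).asIdeal) : gA f c ∈ Vn x :=
  (germ_mem_iff (U := (⊤ : X.Opens)) (x := x) trivial (glob f c)).2 fun h' => (mem_basicOpen_glob f c x).1 h' h

theorem mem_of_gA_vn {x : X} {c : A} (h : gA f c ∈ Vn x) : c ∈ (f x).asIdeal := by
  by_contra hc
  exact (germ_mem_iff (U := (⊤ : X.Opens)) (x := x) trivial (glob f c)).1 h ((mem_basicOpen_glob f c x).2 hc)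

theorem gA_inv {x : X} {c : A} (h : c ∉ (f x).asIdeal) : gA f c ≠ 0 ∧ (gA f c)⁻¹ ∈ Rg x := by
  obtain ⟨v, hv⟩ := (Scheme.mem_basicOpen X (glob f c) x trivial).1 ((mem_basicOpen_glob f c x).2 h)
  have hv' : algebraMap (X.presheaf.stalk x) X.functionField v = gA f c := by
    rw [hv, algebraMap_germ_glob]
  refine ⟨?_, ((v⁻¹ : (X.presheaf.stalk x)ˣ) : X.presheaf.stalk x), ?_⟩
  · rw [← hv']
    exact (v.isUnit.map (algebraMap (X.presheaf.stalk x) X.functionField)).ne_zero
  · rw [map_units_inv, hv']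

theorem vn_mem {x : X} {r : X.functionField} (h : r ∈ Vn x) : r ∈ Rg x := by
  obtain ⟨v, -, rfl⟩ := h
  exact ⟨v, rfl⟩

theorem vn_neg {x : X} {r : X.functionField} (h : r ∈ Vn x) : -r ∈ Vn x := by
  obtain ⟨v, hv, rfl⟩ := h
  exact ⟨-v, Submodule.neg_mem _ hv, map_neg _ _⟩

/-- A family glued modulo the closure of a point satisfies a monic relation there. -/
theorem exists_monic_relation [UniversallyClosed f] (ξ : X) {ι : Type*} (V : ι → X.Opens)
    (hcov : ∀ z, ∃ i, z ∈ V i) (s : ι → X.functionField) (hreg : ∀ i, ∀ z ∈ V i, s i ∈ Rg z)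
    (hdiff : ∀ i j, ξ ∈ V i → ξ ∈ V j → s i - s j ∈ Vn ξ) :
    ∃ Pm : Polynomial A, Pm.Monic ∧ ∀ i, ξ ∈ V i → Pm.eval₂ (gA f) (s i) ∈ Vn ξ := by
  classical
  choose κ hκ using hcov
  let I := Scheme.IdealSheafData.vanishingIdeal (X := X) ⟨closure {ξ}, isClosed_closure⟩
  let j := I.subschemeι
  haveI : IsReduced I.subscheme :=
    DvrDom.isReduced_vanishingIdeal_subscheme (X := X) ⟨closure {ξ}, isClosed_closure⟩
  have hrange : Set.range j = closure {ξ} := by
    rw [Scheme.IdealSheafData.range_subschemeι, Scheme.IdealSheafData.coe_support_vanishingIdeal]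
    rfl
  have hsp : ∀ w, ξ ⤳ j w := fun w => specializes_iff_mem_closure.2 (hrange ▸ ⟨w, rfl⟩)
  obtain ⟨w₀, hw₀⟩ : ∃ w, j w = ξ := by
    have h : ξ ∈ Set.range j := hrange.symm ▸ subset_closure (Set.mem_singleton ξ)
    exact h
  let J := {i : ι // (V i : Set X).Nonempty}
  haveI hJ : ∀ i : J, Nonempty (V i.1) := fun i => i.2.to_subtype
  choose G hG using fun i : J => DomFib.exists_section (V i.1) (s i.1) (hreg i.1)
  have hcompat : TopCat.Presheaf.IsCompatible I.subscheme.presheaf (fun i : J => j ⁻¹ᵁ V i.1)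
      fun i => j.app (V i.1) (G i) := by
    intro i k
    let W : X.Opens := V i.1 ⊓ V k.1
    haveI : Nonempty W := (nonempty_preirreducible_inter (V i.1).2 (V k.1).2 i.2 k.2).to_subtype
    let H : Γ(X, W) := X.presheaf.map (homOfLE inf_le_left).op (G i) - X.presheaf.map (homOfLE inf_le_right).op (G k)
    have hH : X.germToFunctionField W H = s i.1 - s k.1 := by
      rw [map_sub, NormSect.germTo_res, NormSect.germTo_res, hG, hG]
    have hb : I.subscheme.basicOpen (j.app W H) = ⊥ := by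
      rw [← Scheme.preimage_basicOpen, eq_bot_iff]
      intro w hw
      have hξW : ξ ∈ W := (hsp w).mem_open W.2 (X.basicOpen_le H hw)
      refine absurd ((hsp w).mem_open (X.basicOpen H).2 hw) ((germ_mem_iff hξW H).1 ?_)
      rw [hH]
      exact hdiff i.1 k.1 hξW.1 hξW.2
    have h0 : j.app W H = 0 := (basicOpen_eq_bot_iff _).1 hb
    rw [map_sub, sub_eq_zero] at h0
    refine Eq.trans ?_ (h0.trans ?_)
    · exact (ConcreteCategory.congr_hom (j.naturality (homOfLE inf_le_left).op) (G i)).symm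
    · exact ConcreteCategory.congr_hom (j.naturality (homOfLE inf_le_right).op) (G k)
  obtain ⟨σ₀, hσ, -⟩ := I.subscheme.sheaf.existsUnique_gluing' (fun i : J => j ⁻¹ᵁ V i.1) ⊤
    (fun _ => homOfLE le_top) (fun w _ => Opens.mem_iSup.2 ⟨⟨κ (j w), ⟨_, hκ _⟩⟩, hκ (j w)⟩) _ hcompat
  let σ : Γ(I.subscheme, ⊤) := σ₀
  let qD := j ≫ f
  obtain ⟨Q, hQ, hroot⟩ := isIntegral_appTop_of_universallyClosed qD σ
  let e : Γ(Spec (CommRingCat.of A), ⊤) →+* A := (Scheme.ΓSpecIso (CommRingCat.of A)).hom.hom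
  refine ⟨Q.map e, hQ.map e, fun i hi => ?_⟩
  let i' : J := ⟨i, ⟨ξ, hi⟩⟩
  haveI : Nonempty (V i) := ⟨⟨ξ, hi⟩⟩
  let φ : A →+* Γ(X, V i) := (X.presheaf.map (homOfLE (le_top : V i ≤ ⊤)).op).hom.comp (glob f)
  let H : Γ(X, V i) := (Q.map e).eval₂ φ (G i')
  have hgerm : X.germToFunctionField (V i) H = (Q.map e).eval₂ (gA f) (s i) := by
    refine (Polynomial.hom_eval₂ (Q.map e) φ (X.germToFunctionField (V i)).hom (G i')).trans ?_
    congr 1
    · exact RingHom.ext fun c => res_germTo le_top _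
    · exact hG i'
  rw [← hgerm, germ_mem_iff hi]
  intro hb
  have hw₀b : w₀ ∈ j ⁻¹ᵁ X.basicOpen H := by
    change j w₀ ∈ X.basicOpen H
    rw [hw₀]
    exact hb
  rw [Scheme.preimage_basicOpen] at hw₀b
  let r : Γ(I.subscheme, ⊤) →+* Γ(I.subscheme, j ⁻¹ᵁ V i) :=
    (I.subscheme.presheaf.map (homOfLE (le_top : j ⁻¹ᵁ V i ≤ ⊤)).op).hom
  have hr : r σ = j.app (V i) (G i') := hσ i'
  have h0 : j.app (V i) H = 0 := by
    refine (Polynomial.hom_eval₂ (Q.map e) φ (j.app (V i)).hom (G i')).trans ?_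
    rw [show (j.app (V i)).hom (G i') = r σ from hr.symm, Polynomial.eval₂_map]
    have hcomp : ((j.app (V i)).hom.comp φ).comp e = r.comp qD.appTop.hom := by
      refine RingHom.ext fun c => ?_
      show j.app (V i) (X.presheaf.map (homOfLE (le_top : V i ≤ ⊤)).op
        (f.appTop ((Scheme.ΓSpecIso (CommRingCat.of A)).inv ((Scheme.ΓSpecIso (CommRingCat.of A)).hom c)))) =
        I.subscheme.presheaf.map (homOfLE (le_top : j ⁻¹ᵁ V i ≤ ⊤)).op (qD.appTop c)
      rw [show (Scheme.ΓSpecIso (CommRingCat.of A)).inv ((Scheme.ΓSpecIso (CommRingCat.of A)).hom c) = c from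
        (Scheme.ΓSpecIso (CommRingCat.of A)).hom_inv_id_apply c]
      exact ConcreteCategory.congr_hom (j.naturality (homOfLE (le_top : V i ≤ ⊤)).op) (f.appTop c)
    rw [hcomp, ← Polynomial.hom_eval₂, hroot, map_zero]
  rw [h0, Scheme.basicOpen_zero] at hw₀b
  exact hw₀b

end general

section birational

variable {A : Type u} [CommRing A] [IsDomain A] [IsLocalRing A] [IsNoetherianRing A] [IsIntegrallyClosed A]
  (hdim : ringKrullDim A = 2) {X : Scheme.{u}} (f : X ⟶ Spec (CommRingCat.of A)) [IsProper f] [IsIntegral X]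
  (hbir : ∃ U : (Spec (CommRingCat.of A)).Opens, (U : Set (Spec (CommRingCat.of A))).Nonempty ∧ IsIso (f ∣_ U))
  (hn : Pi1.IsNormalScheme X)

include hdim hbir in
theorem exists_iso_nhd {y : Spec (CommRingCat.of A)} (hy : y ≠ IsLocalRing.closedPoint A) :
    ∃ W : (Spec (CommRingCat.of A)).Opens, y ∈ W ∧ IsIso (f ∣_ W) := by
  have hd : topologicalKrullDim ↥(Spec (CommRingCat.of A)) ≤ 2 := by
    rw [← hdim]
    exact le_of_eq (PrimeSpectrum.topologicalKrullDim_eq_ringKrullDim A)
  have hmem : y ∈ PtBlow.isoLocus f := by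
    by_contra h
    obtain ⟨hcl, -⟩ := (PtBlow.compl_isoLocus f RatBlow.isNormal_spec hd hbir).2 y h
    exact hy ((Set.mem_singleton_iff.1
      ((IsLocalRing.specializes_closedPoint y).mem_closed hcl (Set.mem_singleton y))).symm)
  obtain ⟨⟨W, hW⟩, hyW⟩ := Opens.mem_iSup.1 hmem
  exact ⟨W, hyW, hW⟩

include hdim hbir in
theorem eq_of_map_eq {x x' : X} (hx : f x ≠ IsLocalRing.closedPoint A) (h : f x = f x') : x = x' := by
  obtain ⟨W, hW, hWi⟩ := exists_iso_nhd hdim f hbir hx
  haveI := hWi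
  have h' : (f ∣_ W) ⟨x, hW⟩ = (f ∣_ W) ⟨x', show f x' ∈ W from h ▸ hW⟩ := by
    refine Subtype.ext ?_
    rw [morphismRestrict_base_coe, morphismRestrict_base_coe]
    exact h
  exact congrArg Subtype.val ((f ∣_ W).homeomorph.injective h')

include hdim hbir in
theorem exists_repr {x : X} (hx : f x ≠ IsLocalRing.closedPoint A) {r : X.functionField} (hr : r ∈ Rg x) :
    ∃ c d : A, d ∉ (f x).asIdeal ∧ r * gA f d = gA f c := by
  obtain ⟨W, hW, hWi⟩ := exists_iso_nhd hdim f hbir hx
  haveI := hWi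
  haveI : IsIso (f.stalkMap x) :=
    ((MorphismProperty.isomorphisms CommRingCat.{u}).arrow_mk_iso_iff (morphismRestrictStalkMap f W ⟨x, hW⟩)).1
      (MorphismProperty.isomorphisms.infer_property _)
  obtain ⟨v, rfl⟩ := hr
  obtain ⟨v₀, rfl⟩ := ((ConcreteCategory.isIso_iff_bijective (f.stalkMap x)).1 inferInstance).2 v
  letI : Algebra A ((Spec (CommRingCat.of A)).presheaf.stalk (f x)) := StructureSheaf.stalkAlgebra A (f x)
  haveI : IsLocalization.AtPrime ((Spec (CommRingCat.of A)).presheaf.stalk (f x)) (f x).asIdeal :=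
    StructureSheaf.IsLocalization.to_stalk A (f x)
  obtain ⟨⟨c, d⟩, hcd⟩ := IsLocalization.surj (f x).asIdeal.primeCompl v₀
  refine ⟨c, d, d.2, ?_⟩
  have he : ∀ e : A, algebraMap (X.presheaf.stalk x) X.functionField
      (f.stalkMap x (algebraMap A ((Spec (CommRingCat.of A)).presheaf.stalk (f x)) e)) = gA f e := fun e => by
    rw [← algebraMap_germ_glob f x e]
    congr 1
    exact Scheme.Hom.germ_stalkMap_apply f ⊤ x trivial ((Scheme.ΓSpecIso (CommRingCat.of A)).inv e)
  have := congrArg (fun v => algebraMap (X.presheaf.stalk x) X.functionField (f.stalkMap x v)) hcd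
  simp only [map_mul] at this
  rw [he, he] at this
  exact this

namespace Data

variable {a : A} (D : Data a)

open scoped Classical in
/-- the product of the other components -/
def others (P : Ideal A) : A := ∏ Q ∈ D.S.erase P, D.π Q ^ D.n Q

open scoped Classical in
/-- the uniform multiplier -/
def mult : A := ∑ P ∈ D.S, D.others P * (D.cond P * D.others P * D.U P)

theorem isPrime {P : Ideal A} (hP : P ∈ D.S) : P.IsPrime := ((D.mem_iff P).1 hP).1.1

theorem others_notMem {P : Ideal A} (hP : P ∈ D.S) : D.others P ∉ P := by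
  classical
  haveI := D.isPrime hP
  intro h
  obtain ⟨Q, hQ, hQP⟩ := (D.isPrime hP).prod_mem_iff.1 h
  obtain ⟨hne, hQS⟩ := Finset.mem_erase.1 hQ
  exact D.π_notMem Q hQS P hP (Ne.symm hne) ((D.isPrime hP).mem_of_pow_mem _ hQP)

theorem dvd_others {P Q : Ideal A} (hP : P ∈ D.S) (hne : P ≠ Q) : D.π P ^ D.n P ∣ D.others Q := by
  classical
  exact Finset.dvd_prod_of_mem (fun Q => D.π Q ^ D.n Q) (Finset.mem_erase.2 ⟨hne, hP⟩)

theorem others_mem {P Q : Ideal A} (hP : P ∈ D.S) (hne : P ≠ Q) : D.others Q ∈ P :=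
  P.mem_of_dvd (D.dvd_others hP hne)
    (P.pow_mem_of_mem (D.π_mem P hP) _ (D.n_pos P hP))

theorem mult_sub_mem {P : Ideal A} (hP : P ∈ D.S) :
    D.mult - D.others P * (D.cond P * D.others P * D.U P) ∈ P := by
  classical
  rw [mult, ← Finset.add_sum_erase _ _ hP, add_sub_cancel_left]
  refine Ideal.sum_mem _ fun Q hQ => ?_
  obtain ⟨hne, -⟩ := Finset.mem_erase.1 hQ
  exact P.mul_mem_right _ (D.others_mem hP (Ne.symm hne))

theorem mult_notMem {P : Ideal A} (hP : P ∈ D.S) : D.mult ∉ P := fun h => by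
  have h1 := P.sub_mem h (D.mult_sub_mem hP)
  rw [sub_sub_cancel] at h1
  haveI := D.isPrime hP
  rcases (D.isPrime hP).mem_or_mem h1 with h2 | h2
  · exact D.others_notMem hP h2
  rcases (D.isPrime hP).mem_or_mem h2 with h3 | h3
  · rcases (D.isPrime hP).mem_or_mem h3 with h4 | h4
    · exact D.cond_notMem P hP h4
    · exact D.others_notMem hP h4
  · exact D.U_notMem P hP h3

/-- polar orders bounded by `k` along the components -/
def Lev (f : X ⟶ Spec (CommRingCat.of A)) [IsIntegral X] {ι : Type*} (V : ι → X.Opens) (k : Ideal A → ℕ)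
    (t : ι → X.functionField) : Prop :=
  ∀ i, ∀ x ∈ V i, ∀ P ∈ D.S, (f x).asIdeal = P → gA f (D.π P) ^ k P * t i ∈ Rg x

end Data

variable {a : A} (ha : a ∈ IsLocalRing.maximalIdeal A) (ha0 : a ≠ 0) (D : Data a)

include hdim ha0 D in
theorem cases_off_fibre {x : X} (hx : f x ≠ IsLocalRing.closedPoint A) :
    a ∉ (f x).asIdeal ∨ (f x).asIdeal ∈ D.S := by
  by_contra h
  push_neg at h
  obtain ⟨P, hP, hPle⟩ := Ideal.exists_minimalPrimes_le (I := Ideal.span {a}) (J := (f x).asIdeal)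
    ((Ideal.span_singleton_le_iff_mem _).2 h.1)
  rcases eq_or_lt_of_le hPle with e | hlt
  · exact h.2 (e ▸ (D.mem_iff P).2 hP)
  · exact hx (PrimeSpectrum.ext (eq_maximal_of_lt hdim ha0 hP (f x).isPrime hlt))

theorem ne_closedPoint (hdim : ringKrullDim A = 2) {x : X} {P : Ideal A} (hP : P ∈ D.S)
    (h : (f x).asIdeal = P) : f x ≠ IsLocalRing.closedPoint A := fun e =>
  maximal_notMem_minimalPrimes hdim (x := a) (by
    have := (D.mem_iff P).1 hP
    rwa [← h, e] at this)

include hdim hbir hn ha0 in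
theorem regular_of_lev_zero {ι : Type*} (V : ι → X.Opens) (hcov : ∀ z, ∃ i, z ∈ V i) (t : ι → X.functionField)
    (hdiff : ∀ i j, ∀ z, z ∈ V i → z ∈ V j → t i - t j ∈ Rg z)
    (hunit : ∀ i, ∀ z ∈ V i, a ∉ (f z).asIdeal → t i ∈ Rg z)
    (h : ∀ i, ∀ x ∈ V i, ∀ P ∈ D.S, (f x).asIdeal = P → t i ∈ Rg x) :
    ∀ i, ∀ z ∈ V i, t i ∈ Rg z := by
  haveI : IsLocallyNoetherian X := LocallyOfFiniteType.isLocallyNoetherian f
  refine regular_of_polar_modification hdim f hbir hn V hcov t (fun i z hz hzE => ?_) hdiff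
  rcases cases_off_fibre hdim f ha0 D hzE with h1 | h1
  · exact hunit i z hz h1
  · exact h i z hz _ h1 rfl

include hdim hbir hn ha0 in
/-- One step down in all polar orders. -/
theorem exists_step {ι : Type*} (V : ι → X.Opens) (hcov : ∀ z, ∃ i, z ∈ V i) (t : ι → X.functionField)
    (hdiff : ∀ i j, ∀ z, z ∈ V i → z ∈ V j → t i - t j ∈ Rg z)
    (hunit : ∀ i, ∀ z ∈ V i, a ∉ (f z).asIdeal → t i ∈ Rg z)
    (k : Ideal A → ℕ) (hk : ∀ P ∈ D.S, k P ≤ D.n P) (hlev : D.Lev f V k t) :
    ∃ b : A, D.Lev f V (fun P => k P - 1) (fun i => gA f D.mult * t i - gA f b / gA f a) := by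
  classical
  haveI : IsLocallyNoetherian X := LocallyOfFiniteType.isLocallyNoetherian f
  have hbir' := hbir
  obtain ⟨U, hU, hUi⟩ := hbir
  haveI := hUi
  have hbij := PtBlow.bijective_app_of_birational f RatBlow.isNormal_spec U hU
  have hα : gA f a ≠ 0 := germ_glob_ne_zero f hbir' ha0
  have key : ∀ P ∈ D.S, ∃ b : A, 1 ≤ k P → ∀ i, ∀ x ∈ V i, (f x).asIdeal = P →
      gA f (D.cond P) * (t i * gA f (D.π P ^ k P * D.others P)) - gA f b ∈ Vn x := by
    intro P hP
    by_cases hk1 : 1 ≤ k P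
    · obtain ⟨ξ, hξ⟩ := (PtBlow.isConnected_preimage f hbij (⟨P, D.isPrime hP⟩ : PrimeSpectrum A)).nonempty
      have hξP : (f ξ).asIdeal = P := congrArg PrimeSpectrum.asIdeal hξ
      have hξE := ne_closedPoint f D hdim hP hξP
      obtain ⟨g, hg⟩ : ∃ g : A, g = D.π P ^ k P * D.others P := ⟨_, rfl⟩
      have hgQ : ∀ Q ∈ D.S, D.π Q ^ k Q ∣ g := fun Q hQ => by
        rw [hg]
        by_cases e : Q = P
        · subst e; exact dvd_mul_right _ _
        · exact ((pow_dvd_pow _ (hk Q hQ)).trans (D.dvd_others hQ e)).trans (dvd_mul_left _ _)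
      have hgP : g ∈ P := hg ▸ P.mul_mem_right _ (P.pow_mem_of_mem (D.π_mem P hP) _ hk1)
      have hsreg := regular_of_lev_zero hdim f hbir' hn ha0 D V hcov (fun i => t i * gA f g)
        (fun i j z hi hj => by
          rw [← sub_mul]
          exact Subring.mul_mem _ (hdiff i j z hi hj) (gA_mem f z g))
        (fun i z hz h => Subring.mul_mem _ (hunit i z hz h) (gA_mem f z g))
        (fun i x hx Q hQ hxQ => by
          obtain ⟨q, hq⟩ := hgQ Q hQ
          rw [hq, map_mul, map_pow, ← mul_assoc, mul_comm (t i)]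
          exact Subring.mul_mem _ (hlev i x hx Q hQ hxQ) (gA_mem f x q))
      have hsdiff : ∀ i j, ξ ∈ V i → ξ ∈ V j → t i * gA f g - t j * gA f g ∈ Vn ξ := fun i j hi hj => by
        rw [← sub_mul]
        exact vn_mul (hdiff i j ξ hi hj) (gA_vn f (hξP.symm ▸ hgP))
      obtain ⟨Pm, hPm, hrel⟩ := exists_monic_relation f ξ V hcov _ hsreg hsdiff
      obtain ⟨i₀, hi₀⟩ := hcov ξ
      obtain ⟨c, d, hd, hcd⟩ := exists_repr hdim f hbir' hξE (hsreg i₀ ξ hi₀)
      obtain ⟨hd0, hdi⟩ := gA_inv f hd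
      have hsum : (∑ i ∈ Finset.range (Pm.natDegree + 1), Pm.coeff i * c ^ i * d ^ (Pm.natDegree - i)) ∈ P := by
        rw [← hξP]
        refine mem_of_gA_vn f ?_
        have h2 := vn_mul (Subring.pow_mem _ (gA_mem f ξ d) Pm.natDegree) (hrel i₀ hi₀)
        rw [Polynomial.eval₂_eq_sum_range, Finset.mul_sum] at h2
        rw [map_sum]
        refine (congrArg (· ∈ Vn ξ) (Finset.sum_congr rfl fun i hi => ?_)).mp h2
        have hi' : i ≤ Pm.natDegree := by rw [Finset.mem_range] at hi; omega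
        rw [map_mul, map_mul, map_pow, map_pow, ← hcd]
        obtain ⟨m, hm⟩ := Nat.exists_eq_add_of_le hi'
        rw [show Pm.natDegree - i = m by omega, hm, pow_add, mul_pow]
        ring
      obtain ⟨b, hb⟩ := D.cond_spec P hP c d Pm (hξP ▸ hd) hPm hsum
      refine ⟨b, fun _ i x hx hxP => ?_⟩
      rw [← hg]
      obtain rfl : ξ = x := eq_of_map_eq hdim f hbir' hξE (PrimeSpectrum.ext (hξP.trans hxP.symm))
      have h1 : gA f (D.cond P) * (t i₀ * gA f g) - gA f b =
          (gA f d)⁻¹ * gA f (D.cond P * c - d * b) := by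
        rw [map_sub, map_mul, map_mul, ← hcd]
        field_simp
      have h2 : gA f (D.cond P) * (t i₀ * gA f g) - gA f b ∈ Vn ξ := h1 ▸ vn_mul hdi (gA_vn f (hξP.symm ▸ hb))
      have h3 : gA f (D.cond P) * (t i * gA f g) - gA f b =
          (gA f (D.cond P) * (t i₀ * gA f g) - gA f b) + gA f (D.cond P) * (t i * gA f g - t i₀ * gA f g) := by
        ring
      rw [h3]
      exact vn_add h2 (vn_mul (gA_mem f ξ _) (hsdiff i i₀ hx hi₀))
    · exact ⟨0, fun h => absurd h hk1⟩
  choose b hb using key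
  let bb : Ideal A → A := fun P => if h : P ∈ D.S ∧ 1 ≤ k P then b P h.1 else 0
  let term : Ideal A → A := fun P => D.others P * bb P * D.π P ^ (D.n P - k P) * D.U' P
  refine ⟨∑ P ∈ D.S, term P, fun i x hx P hP hxP => ?_⟩
  have hxE := ne_closedPoint f D hdim hP hxP
  obtain ⟨hU0, hUinv⟩ := gA_inv f (x := x) (c := D.U P) (hxP.symm ▸ D.U_notMem P hP)
  obtain ⟨hU0', hUinv'⟩ := gA_inv f (x := x) (c := D.U' P) (hxP.symm ▸ D.U'_notMem P hP)
  have hrel : gA f a * gA f (D.U P) = gA f (D.π P) ^ D.n P * gA f (D.U' P) := by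
    rw [← map_mul, D.rel P hP, map_mul, map_pow]
  have hπ0 : gA f (D.π P) ≠ 0 := fun e => by
    rw [e, zero_pow (Nat.one_le_iff_ne_zero.1 (D.n_pos P hP)), zero_mul] at hrel
    exact mul_ne_zero hα hU0 hrel
  have hother : gA f (∑ Q ∈ D.S.erase P, term Q) / gA f a ∈ Rg x := by
    rw [map_sum, Finset.sum_div]
    refine Subring.sum_mem _ fun Q hQ => ?_
    obtain ⟨hne, -⟩ := Finset.mem_erase.1 hQ
    obtain ⟨q, hq⟩ := D.dvd_others hP (Ne.symm hne)
    have e : gA f (term Q) / gA f a = (gA f (D.U' P))⁻¹ * gA f (D.U P * (q * bb Q * D.π Q ^ (D.n Q - k Q) * D.U' Q)) := by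
      rw [eq_comm, inv_mul_eq_div, div_eq_div_iff hU0' hα, ← map_mul, ← map_mul]
      refine congrArg (gA f) ?_
      simp only [term]
      rw [hq]
      linear_combination (q * bb Q * D.π Q ^ (D.n Q - k Q) * D.U' Q) * D.rel P hP
    rw [e]
    exact Subring.mul_mem _ hUinv' (gA_mem f x _)
  have hlev' := hlev i x hx P hP hxP
  have hsplit : gA f (∑ Q ∈ D.S, term Q) = gA f (term P) + gA f (∑ Q ∈ D.S.erase P, term Q) := by
    rw [← map_add, Finset.add_sum_erase _ _ hP]
  simp only []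
  rw [hsplit, add_div, ← sub_sub, mul_sub]
  refine Subring.sub_mem _ ?_ (Subring.mul_mem _ (Subring.pow_mem _ (gA_mem f x _) _) hother)
  by_cases hk1 : 1 ≤ k P
  · obtain ⟨m, hm⟩ := Nat.exists_eq_add_of_le hk1
    have hbb : bb P = b P hP := dif_pos ⟨hP, hk1⟩
    have hv := hb P hP hk1 i x hx hxP
    obtain ⟨hH0, hHinv⟩ := gA_inv f (x := x) (c := D.others P) (hxP.symm ▸ D.others_notMem hP)
    set w := gA f (D.π P) ^ k P * (gA f D.mult * t i - gA f (term P) / gA f a) with hw
    have hwv : w ∈ Vn x := by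
      have e : w = gA f (D.mult - D.others P * (D.cond P * D.others P * D.U P)) * (gA f (D.π P) ^ k P * t i) +
          gA f (D.others P) * gA f (D.U P) * (gA f (D.cond P) * (t i * gA f (D.π P ^ k P * D.others P)) - gA f (b P hP)) := by
        have e1 : gA f (D.π P) ^ k P * (gA f (term P) / gA f a) =
            gA f (D.others P) * gA f (b P hP) * gA f (D.U P) := by
          rw [← mul_div_assoc, div_eq_iff hα]
          simp only [term, map_mul, map_pow, hbb]
          have : gA f (D.π P) ^ k P * gA f (D.π P) ^ (D.n P - k P) = gA f (D.π P) ^ D.n P := by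
            rw [← pow_add, Nat.add_sub_cancel' (hk P hP)]
          linear_combination (gA f (D.others P) * gA f (b P hP)) * (gA f (D.U' P)) * this -
            (gA f (D.others P) * gA f (b P hP)) * hrel
        rw [hw, mul_sub, e1]
        simp only [map_sub, map_mul, map_pow]
        ring
      rw [e]
      refine vn_add ?_ (vn_mul (Subring.mul_mem _ (gA_mem f x _) (gA_mem f x _)) hv)
      rw [mul_comm]
      exact vn_mul hlev' (gA_vn f (hxP.symm ▸ D.mult_sub_mem hP))
    obtain ⟨c, d, hd, hcd⟩ := exists_repr hdim f hbir' hxE (vn_mem hwv)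
    have hcP : c ∈ P := hxP ▸ mem_of_gA_vn f (hcd ▸ (mul_comm (gA f d) w) ▸ vn_mul (gA_mem f x d) hwv)
    obtain ⟨u, hu, q, hq⟩ := D.π_gen P hP c hcP
    obtain ⟨hud0, hudinv⟩ := gA_inv f (x := x) (c := u * d) (by
      rw [hxP]; exact fun h => ((D.isPrime hP).mem_or_mem h).elim hu (hxP ▸ hd))
    have hfin : gA f (D.π P) ^ (k P - 1) * (gA f D.mult * t i - gA f (term P) / gA f a) =
        (gA f (u * d))⁻¹ * gA f q := by
      refine mul_left_cancel₀ hπ0 ?_
      rw [← mul_assoc, ← pow_succ', show k P - 1 + 1 = k P by omega, ← hw, mul_left_comm, ← map_mul,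
        eq_comm, inv_mul_eq_iff_eq_mul₀ hud0, ← hq, map_mul, map_mul, ← hcd]
      ring
    rw [hfin]
    exact Subring.mul_mem _ hudinv (gA_mem f x q)
  · have hk0 : k P = 0 := by omega
    have hbb : bb P = 0 := dif_neg fun h => hk1 h.2
    have : term P = 0 := by simp only [term, hbb, mul_zero, zero_mul]
    rw [this, map_zero, zero_div, sub_zero, hk0]
    rw [hk0] at hlev'
    rw [mul_left_comm]
    exact Subring.mul_mem _ (gA_mem f x _) hlev'

include hdim hbir hn ha0 in
/-- The uniform bound: a power of the multiplier moves any bounded polar family into the base. -/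
theorem exists_regular_mult {ι : Type*} (V : ι → X.Opens) (hcov : ∀ z, ∃ i, z ∈ V i) (t : ι → X.functionField)
    (hdiff : ∀ i j, ∀ z, z ∈ V i → z ∈ V j → t i - t j ∈ Rg z)
    (hα : ∀ i, ∀ z ∈ V i, t i * gA f a ∈ Rg z) :
    ∃ b : A, ∀ i, ∀ z ∈ V i, gA f D.mult ^ (∑ P ∈ D.S, D.n P) * t i - gA f b / gA f a ∈ Rg z := by
  classical
  have hunit : ∀ i, ∀ z ∈ V i, a ∉ (f z).asIdeal → t i ∈ Rg z := fun i z hz h => by
    obtain ⟨h0, hinv⟩ := gA_inv f h
    have := Subring.mul_mem _ (hα i z hz) hinv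
    rwa [mul_assoc, mul_inv_cancel₀ h0, mul_one] at this
  have key : ∀ p : ℕ, ∃ b : A, D.Lev f V (fun P => D.n P - p)
      (fun i => gA f D.mult ^ p * t i - gA f b / gA f a) := by
    intro p
    induction p with
    | zero =>
      refine ⟨0, fun i x hx P hP hxP => ?_⟩
      obtain ⟨hU0', hUinv'⟩ := gA_inv f (x := x) (c := D.U' P) (hxP.symm ▸ D.U'_notMem P hP)
      simp only []
      rw [Nat.sub_zero, pow_zero, one_mul, map_zero, zero_div, sub_zero]
      have e : gA f (D.π P) ^ D.n P * t i = (gA f (D.U' P))⁻¹ * gA f (D.U P) * (t i * gA f a) := by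
        have : gA f a * gA f (D.U P) = gA f (D.π P) ^ D.n P * gA f (D.U' P) := by
          rw [← map_mul, D.rel P hP, map_mul, map_pow]
        field_simp
        linear_combination -(t i) * this
      rw [e]
      exact Subring.mul_mem _ (Subring.mul_mem _ hUinv' (gA_mem f x _)) (hα i x hx)
    | succ p ih =>
      obtain ⟨b, hb⟩ := ih
      obtain ⟨b', hb'⟩ := exists_step hdim f hbir hn ha0 D V hcov _
        (fun i j z hi hj => by
          rw [show ∀ u v w : X.functionField, u - w - (v - w) = u - v from fun u v w => by ring, ← mul_sub]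
          exact Subring.mul_mem _ (Subring.pow_mem _ (gA_mem f z _) _) (hdiff i j z hi hj))
        (fun i z hz h => by
          obtain ⟨-, hinv⟩ := gA_inv f h
          refine Subring.sub_mem _ (Subring.mul_mem _ (Subring.pow_mem _ (gA_mem f z _) _) (hunit i z hz h)) ?_
          exact Subring.mul_mem _ (gA_mem f z b) hinv)
        (fun P => D.n P - p) (fun P _ => Nat.sub_le _ _) hb
      refine ⟨D.mult * b + b', fun i x hx P hP hxP => ?_⟩
      have := hb' i x hx P hP hxP
      simp only [Nat.sub_sub] at this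
      refine (congrArg (· ∈ Rg x) ?_).mp this
      rw [map_add, map_mul, pow_succ', add_div, mul_div_assoc]
      ring
  obtain ⟨b, hb⟩ := key (∑ P ∈ D.S, D.n P)
  refine ⟨b, regular_of_lev_zero hdim f hbir hn ha0 D V hcov _
    (fun i j z hi hj => by
      rw [show ∀ u v w : X.functionField, u - w - (v - w) = u - v from fun u v w => by ring, ← mul_sub]
      exact Subring.mul_mem _ (Subring.pow_mem _ (gA_mem f z _) _) (hdiff i j z hi hj))
    (fun i z hz h => by
      obtain ⟨-, hinv⟩ := gA_inv f h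
      refine Subring.sub_mem _ (Subring.mul_mem _ (Subring.pow_mem _ (gA_mem f z _) _) (hunit i z hz h)) ?_
      exact Subring.mul_mem _ (gA_mem f z b) hinv)
    fun i x hx P hP hxP => ?_⟩
  have h := hb i x hx P hP hxP
  simp only [] at h ⊢
  rwa [show D.n P - (∑ Q ∈ D.S, D.n Q) = 0 from
    Nat.sub_eq_zero_of_le (Finset.single_le_sum (fun Q _ => Nat.zero_le (D.n Q)) hP), pow_zero, one_mul] at h

end birational

end Groth.Agent.ExcVanish
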