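import Groth.Agent.ExcVanish.BoundGeom
import Groth.Agent.CohFinite.Linear

/-!
The torsion of `H¹` of a normal modification is bounded independently of the modification.
-/

set_option autoImplicit false
set_option backward.isDefEq.respectTransparency false
set_option backward.isDefEq.respectTransparency.types false
set_option linter.style.haveILetI false

universe u

open CategoryTheory CategoryTheory.Limits AlgebraicGeometry TopologicalSpace Opposite
open Groth.Agent.QC (res resO res_res res_self res_smul resO_resO app_res section_eq_of_locally)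
open Groth.Agent.CohFinite (hhMap hhδ shortExact_toAb)

noncomputable section

namespace Groth.Agent.ExcVanish

attribute [local instance] nonempty_top

variable {A : Type u} [CommRing A] [IsDomain A] [IsLocalRing A] [IsNoetherianRing A] [IsIntegrallyClosed A]
  (hdim : ringKrullDim A = 2)

theorem length_quot_ne_top (hdim : ringKrullDim A = 2) {a : A} (ha0 : a ≠ 0) (D : Data a) (N : ℕ) :
    Module.length A (A ⧸ Ideal.span {a, D.mult ^ N}) ≠ ⊤ := by
  set J : Ideal A := Ideal.span {a, D.mult ^ N}
  have hart : IsArtinianRing (A ⧸ J) := by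
    rw [isArtinianRing_iff_krullDimLE_zero, Ring.krullDimLE_zero_iff]
    intro q hq
    have hp : (q.comap (Ideal.Quotient.mk J)).IsPrime := Ideal.IsPrime.comap _
    have hle : J ≤ q.comap (Ideal.Quotient.mk J) := fun y hy => by
      rw [Ideal.mem_comap, Ideal.Quotient.eq_zero_iff_mem.2 hy]; exact q.zero_mem
    have haq : a ∈ q.comap (Ideal.Quotient.mk J) := hle (Ideal.subset_span (by simp))
    have hmq : D.mult ^ N ∈ q.comap (Ideal.Quotient.mk J) := hle (Ideal.subset_span (by simp))
    obtain ⟨P, hP, hPle⟩ := Ideal.exists_minimalPrimes_le (I := Ideal.span {a}) (J := q.comap (Ideal.Quotient.mk J))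
      ((Ideal.span_singleton_le_iff_mem _).2 haq)
    have hPS := (D.mem_iff P).2 hP
    rcases eq_or_lt_of_le hPle with e | hlt
    · exact absurd (e ▸ hp.mem_of_pow_mem _ hmq) (D.mult_notMem hPS)
    · have hm := eq_maximal_of_lt hdim ha0 hP hp hlt
      haveI : (q.comap (Ideal.Quotient.mk J)).IsMaximal := hm ▸ IsLocalRing.maximalIdeal.isMaximal A
      have hsurj : Function.Surjective (Ideal.Quotient.mk J) := Ideal.Quotient.mk_surjective
      rcases Ideal.map_eq_top_or_isMaximal_of_surjective (Ideal.Quotient.mk J) hsurj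
        (inferInstance : (q.comap (Ideal.Quotient.mk J)).IsMaximal) with h | h
      · rw [Ideal.map_comap_of_surjective (Ideal.Quotient.mk J) hsurj q] at h
        exact absurd h hq.ne_top
      · rwa [Ideal.map_comap_of_surjective (Ideal.Quotient.mk J) hsurj q] at h
  haveI : IsArtinian A (A ⧸ J) := isArtinian_of_surjective_algebraMap
    (show Function.Surjective (algebraMap A (A ⧸ J)) from Ideal.Quotient.mk_surjective)
  exact Module.length_ne_top_iff.2 (isFiniteLength_iff_isNoetherian_isArtinian.2 ⟨inferInstance, inferInstance⟩)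

variable {X : Scheme.{u}} [X.Over (Spec (CommRingCat.of A))] [IsProper (X ↘ Spec (CommRingCat.of A))] [IsIntegral X]
  (hbir : ∃ U : (Spec (CommRingCat.of A)).Opens,
    (U : Set (Spec (CommRingCat.of A))).Nonempty ∧ IsIso ((X ↘ Spec (CommRingCat.of A)) ∣_ U))
  (hn : Pi1.IsNormalScheme X)

/-- degree zero cohomology -/
abbrev h0e (M : X.Modules) : Coh.HH X M 0 ≃+ ((Coh.toAb M).obj.obj (op ⊤)) :=
  Sheaf.H.equiv₀ (Coh.toAb M) (isTerminalTop (α := Opens X))

theorem h0e_map {M N : X.Modules} (φ : M ⟶ N) (x : Coh.HH X M 0) :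
    (show Γ(N, ⊤) from h0e N (hhMap A φ 0 x)) = φ.app ⊤ (show Γ(M, ⊤) from h0e M x) :=
  (Sheaf.H.equiv₀_naturality (f := Groth.Agent.CohFinite.toAbMap φ) (isTerminalTop (α := Opens X)) x).symm

theorem h0e_smul {M : X.Modules} (c : A) (x : Coh.HH X M 0) :
    (show Γ(M, ⊤) from h0e M (c • x)) =
      glob (X ↘ Spec (CommRingCat.of A)) c • (show Γ(M, ⊤) from h0e M x) := by
  change h0e M (Sheaf.H.map (Coh.smulAb M (Coh.toGlobal _ c)) 0 x) = _
  rw [← Sheaf.H.equiv₀_naturality, Coh.smulAb_app]
  congr 1
  change (X.ringCatSheaf.obj.map (𝟙 (op (⊤ : X.Opens)))).hom _ = _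
  rw [CategoryTheory.Functor.map_id]
  rfl

include hdim hbir hn in
/-- sections modulo `a` move into the base under a power of the multiplier, which is injective on them -/
theorem sections_cokernel_scal {a : A} (ha0 : a ≠ 0) (D : Data a)
    (σ : Γ(cokernel (PicBdd.scal (glob (X ↘ Spec (CommRingCat.of A)) a) (Coh.structureModule X)), ⊤)) :
    (∃ b : A, glob (X ↘ Spec (CommRingCat.of A)) (D.mult ^ (∑ P ∈ D.S, D.n P)) • σ =
      (cokernel.π (PicBdd.scal (glob (X ↘ Spec (CommRingCat.of A)) a) (Coh.structureModule X))).app ⊤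
        (show Γ(Coh.structureModule X, ⊤) from glob (X ↘ Spec (CommRingCat.of A)) b)) ∧
    (glob (X ↘ Spec (CommRingCat.of A)) (D.mult ^ (∑ P ∈ D.S, D.n P)) • σ = 0 → σ = 0) := by
  classical
  revert σ
  set f := X ↘ Spec (CommRingCat.of A)
  set i := PicBdd.scal (glob f a) (Coh.structureModule X) with hi
  intro σ
  set N := ∑ P ∈ D.S, D.n P
  set C := D.mult ^ N
  haveI : IsLocallyNoetherian X := LocallyOfFiniteType.isLocallyNoetherian f
  have hα0 : gA f a ≠ 0 := germ_glob_ne_zero f hbir ha0
  have hgl : ∀ (W : X.Opens) [Nonempty W] (c : A),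
      X.germToFunctionField W (X.presheaf.map (homOfLE (le_top : W ≤ ⊤)).op (glob f c)) = gA f c :=
    fun W _ c => res_germTo le_top _
  have hgi : ∀ (W : X.Opens) [Nonempty W] (h : Γ(X, W)),
      X.germToFunctionField W (show Γ(X, W) from i.app W h) = gA f a * X.germToFunctionField W h := fun W _ h =>
    (map_mul (X.germToFunctionField W).hom (X.presheaf.map (homOfLE (le_top : W ≤ ⊤)).op (glob f a)) h).trans
      (congrArg (· * X.germToFunctionField W h) (hgl W a))
  haveI : Mono i := mono_scal f hbir ha0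
  choose V hV hxV l hl using fun z : X => TMul.exists_app_eq_of_epi (cokernel.π i) (U := ⊤) σ (x := z) trivial
  haveI hV' : ∀ z, Nonempty (V z) := fun z => ⟨⟨z, hxV z⟩⟩
  let g : ∀ z, Γ(X, V z) := fun z => l z
  let t : X → X.functionField := fun z => X.germToFunctionField (V z) (g z) / gA f a
  have hta : ∀ z, t z * gA f a = X.germToFunctionField (V z) (g z) := fun z => div_mul_cancel₀ _ hα0
  have hdiff : ∀ p q, ∀ w, w ∈ V p → w ∈ V q → t p - t q ∈ Rg w := by
    intro p q w hwp hwq
    let W : X.Opens := V p ⊓ V q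
    haveI : Nonempty W := ⟨⟨w, hwp, hwq⟩⟩
    have hd : (cokernel.π i).app W (res _ (inf_le_left : W ≤ V p) (l p) - res _ (inf_le_right : W ≤ V q) (l q)) = 0 := by
      rw [map_sub, ← app_res, ← app_res, hl, hl, res_res, res_res, sub_self]
    obtain ⟨h, hh⟩ := exists_app_eq_of_cokernel i W _ hd
    refine ⟨X.presheaf.germ W w ⟨hwp, hwq⟩ h, (algebraMap_germ (U := W) ⟨hwp, hwq⟩ (show Γ(X, W) from h)).trans ?_⟩
    rw [← sub_div, eq_div_iff hα0, mul_comm]
    refine ((hgi W (show Γ(X, W) from h)).symm.trans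
      (congrArg (fun s => X.germToFunctionField W (show Γ(X, W) from s)) hh)).trans ?_
    refine (map_sub (X.germToFunctionField W).hom _ _).trans ?_
    exact congrArg₂ (· - ·) (res_germTo (inf_le_left : W ≤ V p) (g p)) (res_germTo (inf_le_right : W ≤ V q) (g q))
  have hα : ∀ p, ∀ w ∈ V p, t p * gA f a ∈ Rg w := fun p w hw => by
    rw [hta]
    exact ⟨_, algebraMap_germ hw (g p)⟩
  -- criterion: a multiple of `σ` is the image of a constant
  have crit : ∀ (c b : A), (∀ p, ∀ w ∈ V p, gA f c * t p - gA f b / gA f a ∈ Rg w) →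
      glob f c • σ = (cokernel.π i).app ⊤ (show Γ(Coh.structureModule X, ⊤) from glob f b) := by
    intro c b h
    refine section_eq_of_locally fun z _ => ⟨V z, hV z, hxV z, ?_⟩
    obtain ⟨G, hG⟩ := DomFib.exists_section (V z) (gA f c * t z - gA f b / gA f a) (h z)
    have hlG : resO X (le_top : V z ≤ ⊤) (glob f c) • l z -
        res (Coh.structureModule X) (le_top : V z ≤ ⊤) (show Γ(Coh.structureModule X, ⊤) from glob f b) =
        i.app (V z) (show Γ(Coh.structureModule X, V z) from G) := by
      refine X.germToFunctionField_injective (V z) ?_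
      refine Eq.trans ?_ (hgi (V z) G).symm
      rw [hG, mul_sub, mul_div_cancel₀ _ hα0, ← mul_assoc, mul_comm (gA f a) (gA f c), mul_assoc,
        mul_comm (gA f a) (t z), hta]
      refine (map_sub (X.germToFunctionField (V z)).hom _ _).trans (congrArg₂ (· - ·) ?_ (hgl (V z) b))
      exact (map_mul (X.germToFunctionField (V z)).hom _ (g z)).trans (congrArg (· * _) (hgl (V z) c))
    refine (res_smul _ _ _ _).trans ?_
    rw [← hl z, ← TMul.app_smul, app_res, ← sub_eq_zero, ← map_sub, hlG]
    exact ConcreteCategory.congr_hom (congrArg (fun φ : Coh.structureModule X ⟶ cokernel i => φ.app (V z)) (cokernel.condition i))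
      (show Γ(Coh.structureModule X, V z) from G)
  refine ⟨?_, fun h0 => ?_⟩
  · obtain ⟨b, hb⟩ := exists_regular_mult hdim f hbir hn ha0 D V (fun z => ⟨z, hxV z⟩) t hdiff hα
    exact ⟨b, crit C b fun p w hw => by rw [map_pow]; exact hb p w hw⟩
  · have hreg : ∀ p, ∀ w ∈ V p, gA f C * t p ∈ Rg w := by
      intro p w hw
      have hd : (cokernel.π i).app (V p) (resO X (le_top : V p ≤ ⊤) (glob f C) • l p) = 0 := by
        rw [TMul.app_smul, hl, ← res_smul, h0, map_zero]
      obtain ⟨h, hh⟩ := exists_app_eq_of_cokernel i (V p) _ hd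
      refine ⟨X.presheaf.germ (V p) w hw (show Γ(X, V p) from h),
        (algebraMap_germ hw (show Γ(X, V p) from h)).trans ?_⟩
      refine mul_left_cancel₀ hα0 ?_
      rw [mul_left_comm, mul_comm (gA f a) (t p), hta]
      refine ((hgi (V p) (show Γ(X, V p) from h)).symm.trans
        (congrArg (fun s => X.germToFunctionField (V p) (show Γ(X, V p) from s)) hh)).trans ?_
      exact (map_mul (X.germToFunctionField (V p)).hom _ (g p)).trans (congrArg (· * _) (hgl (V p) C))
    have ht := regular_of_lev_zero hdim f hbir hn ha0 D V (fun z => ⟨z, hxV z⟩) t hdiff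
      (fun p w hw h => by
        obtain ⟨hne, hinv⟩ := gA_inv f h
        have := Subring.mul_mem _ (hα p w hw) hinv
        rwa [mul_assoc, mul_inv_cancel₀ hne, mul_one] at this)
      (fun p x hx P hP hxP => by
        obtain ⟨hne, hinv⟩ := gA_inv f (x := x) (c := C)
          (hxP.symm ▸ fun h => D.mult_notMem hP ((D.isPrime hP).mem_of_pow_mem N h))
        have := Subring.mul_mem _ hinv (hreg p x hx)
        rwa [← mul_assoc, inv_mul_cancel₀ hne, one_mul] at this)
    have h1 := crit 1 0 fun p w hw => by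
      rw [map_one, one_mul, map_zero, zero_div, sub_zero]; exact ht p w hw
    rw [map_one, map_zero, one_smul] at h1
    exact h1.trans (map_zero ((cokernel.π i).app ⊤).hom)

include hdim hbir hn in
/-- **The bound.** -/
theorem length_torsion_le {a : A} (ha0 : a ≠ 0) (D : Data a) :
    Module.length A ↥(Submodule.torsionBy A (Coh.HH X (Coh.structureModule X) 1) a) ≤
      Module.length A (A ⧸ Ideal.span {a, D.mult ^ (∑ P ∈ D.S, D.n P)}) := by
  classical
  set f := X ↘ Spec (CommRingCat.of A) with hf
  set i := PicBdd.scal (glob f a) (Coh.structureModule X) with hi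
  set C := D.mult ^ (∑ P ∈ D.S, D.n P) with hC
  haveI : Mono i := mono_scal f hbir ha0
  let S : ShortComplex X.Modules := ShortComplex.mk i (cokernel.π i) (cokernel.condition i)
  have hS : S.ShortExact :=
    { exact := ShortComplex.exact_of_g_is_cokernel _ (cokernelIsCokernel i), mono_f := inferInstanceAs (Mono i) }
  let δ := hhδ A hS 0
  let π₀ := hhMap A (cokernel.π i) 0
  have hscal : ∀ (q : ℕ) (x : Coh.HH X (Coh.structureModule X) q), hhMap A i q x = a • x := fun q x => rfl
  have hrange : LinearMap.range δ = Submodule.torsionBy A (Coh.HH X (Coh.structureModule X) 1) a := by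
    ext x
    rw [Submodule.mem_torsionBy_iff, ← hscal 1 x, LinearMap.mem_range]
    exact (CohFinite.map_f_eq_zero_iff (shortExact_toAb hS) 0 x).symm
  have hker : LinearMap.ker δ = LinearMap.range π₀ := by
    ext x
    rw [LinearMap.mem_ker, LinearMap.mem_range]
    exact CohFinite.δH_eq_zero_iff (shortExact_toAb hS) 0 x
  let cst : A → Coh.HH X (Coh.structureModule X) 0 := fun b =>
    (h0e (Coh.structureModule X)).symm (glob f b)
  have hcst : ∀ b, π₀ (cst b) = b • π₀ (cst 1) := by
    intro b
    rw [← map_smul]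
    congr 1
    apply (h0e (Coh.structureModule X)).injective
    rw [AddEquiv.apply_symm_apply]
    refine Eq.trans ?_ (h0e_smul b (cst 1)).symm
    simp only [cst, AddEquiv.apply_symm_apply, map_one]
    exact (mul_one (glob f b)).symm
  -- every global function comes from the base
  obtain ⟨U, hU, hUi⟩ := id hbir
  haveI := hUi
  have hbij := PtBlow.bijective_app_of_birational f RatBlow.isNormal_spec U hU
  have hall : ∀ x : Coh.HH X (Coh.structureModule X) 0, ∃ b, cst b = x := fun x => by
    obtain ⟨c, hc⟩ := (hbij ⊤).surjective (h0e (Coh.structureModule X) x : Γ(X, ⊤))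
    refine ⟨(Scheme.ΓSpecIso (CommRingCat.of A)).hom c, (AddEquiv.symm_apply_eq _).2 ?_⟩
    refine Eq.trans ?_ hc
    exact congrArg f.appTop ((Scheme.ΓSpecIso (CommRingCat.of A)).hom_inv_id_apply c)
  have hkey : ∀ x : Coh.HH X (cokernel i) 0, (∃ b : A, C • x = b • π₀ (cst 1)) ∧ (C • x = 0 → x = 0) := by
    intro x
    obtain ⟨⟨b, hb⟩, hinj⟩ := sections_cokernel_scal hdim hbir hn ha0 D (h0e (cokernel i) x)
    refine ⟨⟨b, (h0e (cokernel i)).injective ?_⟩, fun h => (h0e (cokernel i)).injective ?_⟩
    · rw [← hcst b]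
      refine (h0e_smul C x).trans (hb.trans ?_)
      refine Eq.trans ?_ (h0e_map (A := A) (cokernel.π i) (cst b)).symm
      simp only [cst, AddEquiv.apply_symm_apply]
      rfl
    · rw [map_zero]
      exact hinj ((h0e_smul C x).symm.trans ((congrArg (h0e (cokernel i)) h).trans (map_zero _)))
  let R := LinearMap.range π₀
  have hR : ∀ r ∈ R, ∃ b : A, r = b • π₀ (cst 1) := by
    rintro r ⟨x, rfl⟩
    obtain ⟨b, rfl⟩ := hall x
    exact ⟨b, hcst b⟩
  let mC : Coh.HH X (cokernel i) 0 →ₗ[A] Coh.HH X (cokernel i) 0 := C • LinearMap.id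
  let Φ := (R.map mC).mkQ.comp mC
  have hΦker : LinearMap.ker Φ = LinearMap.ker δ := by
    rw [hker]
    ext x
    rw [LinearMap.mem_ker]
    change Submodule.Quotient.mk (C • x) = 0 ↔ _
    rw [Submodule.Quotient.mk_eq_zero, Submodule.mem_map]
    constructor
    · rintro ⟨r, hr, hrx⟩
      change C • r = C • x at hrx
      have : x - r = 0 := (hkey _).2 (by rw [smul_sub, hrx, sub_self])
      rw [sub_eq_zero] at this
      exact this ▸ hr
    · exact fun hx => ⟨x, hx, rfl⟩
  let Ψ : A →ₗ[A] (Coh.HH X (cokernel i) 0 ⧸ R.map mC) :=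
    LinearMap.toSpanSingleton A _ (Submodule.Quotient.mk (π₀ (cst 1)))
  have hJ : Ideal.span {a, C} ≤ LinearMap.ker Ψ := by
    rw [Ideal.span_le]
    intro y hy
    refine (Submodule.Quotient.mk_eq_zero (R.map mC)).2 (?_ : y • π₀ (cst 1) ∈ R.map mC)
    rcases hy with h | hy
    · have : y • π₀ (cst 1) = 0 := by
        rw [h, ← map_smul, ← hscal 0]
        exact (CohFinite.map_g_eq_zero_iff (shortExact_toAb hS) 0 _).2 ⟨cst 1, rfl⟩
      rw [this]
      exact Submodule.zero_mem _
    · rw [Set.mem_singleton_iff.1 hy]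
      exact ⟨_, ⟨cst 1, rfl⟩, rfl⟩
  have hΦrange : LinearMap.range Φ ≤ LinearMap.range ((Ideal.span {a, C}).liftQ Ψ hJ) := by
    rintro _ ⟨x, rfl⟩
    obtain ⟨b, hb⟩ := (hkey x).1
    refine ⟨Submodule.Quotient.mk b, ?_⟩
    change Ψ b = Submodule.Quotient.mk (mC x)
    rw [show mC x = C • x from rfl, hb]
    rfl
  calc Module.length A ↥(Submodule.torsionBy A (Coh.HH X (Coh.structureModule X) 1) a)
      = Module.length A (Coh.HH X (cokernel i) 0 ⧸ LinearMap.ker δ) := by
        rw [← hrange]; exact (δ.quotKerEquivRange).length_eq.symm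
    _ = Module.length A ↥(LinearMap.range Φ) := by
        rw [← hΦker]; exact (Φ.quotKerEquivRange).length_eq
    _ ≤ Module.length A ↥(LinearMap.range ((Ideal.span {a, C}).liftQ Ψ hJ)) :=
        Module.length_le_of_injective (Submodule.inclusion hΦrange) (Submodule.inclusion_injective _)
    _ ≤ Module.length A (A ⧸ Ideal.span {a, C}) :=
        Module.length_le_of_surjective _ (LinearMap.surjective_rangeRestrict _)

end Groth.Agent.ExcVanish
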