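import Groth.Agent.ExcVanish.Module
import Groth.Agent.QC.IdealMod

/-!
The conormal sheaf of an exceptional effective Cartier divisor is not trivial.
-/

set_option autoImplicit false
set_option backward.isDefEq.respectTransparency false
set_option backward.isDefEq.respectTransparency.types false
set_option linter.style.haveILetI false

universe u

open CategoryTheory CategoryTheory.Limits AlgebraicGeometry TopologicalSpace Opposite
open Groth.Agent.QC (res resO res_res res_self res_smul resO_resO app_res section_eq_of_locally)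

noncomputable section

namespace Groth.Agent.ExcVanish

variable {A : Type u} [CommRing A] [IsDomain A] [IsLocalRing A] [IsNoetherianRing A] [IsIntegrallyClosed A]
  (hdim : ringKrullDim A = 2) {X : Scheme.{u}} (f : X ⟶ Spec (CommRingCat.of A)) [IsProper f] [IsIntegral X]
  (hbir : ∃ U : (Spec (CommRingCat.of A)).Opens, (U : Set (Spec (CommRingCat.of A))).Nonempty ∧ IsIso (f ∣_ U))
  (hn : Pi1.IsNormalScheme X)

include hdim hbir hn in
/-- Maps from the ideal of an exceptional effective Cartier divisor to its structure sheaf vanish. -/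
theorem hom_idealMod_quotMod_eq_zero (I : X.IdealSheafData) (hI : BlowUp.IsEffCartierIdeal I)
    (hZ : ∀ z ∈ (I.support : Set X), f z = IsLocalRing.closedPoint A)
    (ψ : ClSub.idealMod I ⟶ ClSub.quotMod I) : ψ = 0 := by
  classical
  choose U hxU g hgnzd hg using hI
  haveI hUne : ∀ x, Nonempty (U x).1 := fun x => ⟨⟨x, hxU x⟩⟩
  have hz : ∀ x, ∃ z : Γ(ClSub.idealMod I, (U x).1),
      (show Γ(X, (U x).1) from (ClSub.idealModι I).app (U x).1 z) = g x := fun x =>
    (QC.mem_range_idealModι_affine I (U x) (g x)).2 (by rw [hg x]; exact Ideal.mem_span_singleton_self _)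
  choose z hz using hz
  have hc : ∀ x, ∃ c : Γ(X, (U x).1),
      (ClSub.toSubscheme I).app (U x).1 (show Γ(Coh.structureModule X, (U x).1) from c) = ψ.app (U x).1 (z x) :=
    fun x => I.subschemeι_app_surjective (U x) _
  choose c hc using hc
  have hg0 : ∀ x, X.germToFunctionField (U x).1 (g x) ≠ 0 := fun x h => by
    rw [map_eq_zero_iff _ (X.germToFunctionField_injective _)] at h
    exact nonZeroDivisors.ne_zero (hgnzd x) h
  let t : X → X.functionField := fun x =>
    X.germToFunctionField (U x).1 (c x) / X.germToFunctionField (U x).1 (g x)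
  have hsub : ∀ (W : X.affineOpens) (v : Γ(X, W.1)),
      (ClSub.toSubscheme I).app W.1 (show Γ(Coh.structureModule X, W.1) from v) = 0 → v ∈ I.ideal W := fun W v h =>
    (QC.mem_range_idealModι_affine I W v).1 ((QC.mem_range_kernel_app (ClSub.toSubscheme I) W.1 _).2 h)
  have hreg : ∀ x, ∀ w ∈ (U x).1, t x ∈ Rg w := by
    refine regular_of_polar_modification hdim f hbir hn (fun x => (U x).1) (fun w => ⟨w, hxU w⟩) t ?_ ?_
    · intro x w hw hwE
      have hwb : w ∈ X.basicOpen (g x) := by
        by_contra hb
        refine hwE (hZ w ?_)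
        have hmem : w ∈ X.zeroLocus (U := (U x).1) (I.ideal (U x) : Set Γ(X, (U x).1)) ∩ ((U x).1 : Set X) := by
          refine ⟨?_, hw⟩
          rw [Scheme.mem_zeroLocus_iff, hg x]
          intro v hv
          obtain ⟨r, rfl⟩ := Ideal.mem_span_singleton'.1 hv
          exact fun h => hb (((X.basicOpen_mul r (g x)).le h).2)
        rw [← I.coe_support_inter] at hmem
        exact hmem.1
      obtain ⟨v, hv⟩ := (Scheme.mem_basicOpen X (g x) w hw).1 hwb
      refine ⟨X.presheaf.germ (U x).1 w hw (c x) * ↑v⁻¹, ?_⟩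
      rw [map_mul, map_units_inv, hv, algebraMap_germ hw, algebraMap_germ hw]
      simp only [t, div_eq_mul_inv]
    · intro x y w hwx hwy
      obtain ⟨_, ⟨W, hW, rfl⟩, hwW, hWle⟩ := X.isBasis_affineOpens.exists_subset_of_mem_open
        (show w ∈ (((U x).1 ⊓ (U y).1 : X.Opens) : Set X) from ⟨hwx, hwy⟩) ((U x).1 ⊓ (U y).1).2
      let W' : X.affineOpens := ⟨W, hW⟩
      haveI : Nonempty W := ⟨⟨w, hwW⟩⟩
      have hWx : W ≤ (U x).1 := fun p hp => (hWle hp).1
      have hWy : W ≤ (U y).1 := fun p hp => (hWle hp).2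
      have hspan : ∀ p, ∀ h : W ≤ (U p).1,
          I.ideal W' = Ideal.span {X.presheaf.map (homOfLE h).op (g p)} := fun p h => by
        rw [← I.map_ideal (U := W') (V := U p) h, hg p, Ideal.map_span, Set.image_singleton]
        rfl
      obtain ⟨e, he⟩ : ∃ e, e * X.presheaf.map (homOfLE hWx).op (g x) = X.presheaf.map (homOfLE hWy).op (g y) :=
        Ideal.mem_span_singleton'.1 (by rw [← hspan x hWx, hspan y hWy]; exact Ideal.mem_span_singleton_self _)
      obtain ⟨e', he'⟩ : ∃ e', e' * X.presheaf.map (homOfLE hWy).op (g y) = X.presheaf.map (homOfLE hWx).op (g x) :=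
        Ideal.mem_span_singleton'.1 (by rw [← hspan y hWy, hspan x hWx]; exact Ideal.mem_span_singleton_self _)
      have hzz : res (ClSub.idealMod I) hWy (z y) = e • res (ClSub.idealMod I) hWx (z x) := by
        refine Groth.Agent.QC.app_injective_of_mono (ClSub.idealModι I) _ ?_
        rw [TMul.app_smul, ← app_res, ← app_res]
        refine (congrArg (fun s : Γ(X, (U y).1) => (show Γ(Coh.structureModule X, W) from
          X.presheaf.map (homOfLE hWy).op s)) (hz y)).trans (he.symm.trans ?_)
        exact congrArg (fun s : Γ(X, (U x).1) => e * X.presheaf.map (homOfLE hWx).op s) (hz x).symm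
      have hd : X.presheaf.map (homOfLE hWy).op (c y) - e * X.presheaf.map (homOfLE hWx).op (c x) ∈ I.ideal W' := by
        refine hsub W' _ ?_
        refine (map_sub ((ClSub.toSubscheme I).app W).hom
          (res (Coh.structureModule X) hWy (c y)) (e • res (Coh.structureModule X) hWx (c x))).trans ?_
        rw [sub_eq_zero, TMul.app_smul, ← app_res, ← app_res, hc, hc, app_res, app_res, ← TMul.app_smul, hzz]
      rw [hspan x hWx, Ideal.mem_span_singleton'] at hd
      obtain ⟨r, hr⟩ := hd
      have hgx : X.germToFunctionField W (X.presheaf.map (homOfLE hWx).op (g x)) =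
          X.germToFunctionField (U x).1 (g x) := res_germTo hWx _
      have hgy : X.germToFunctionField W (X.presheaf.map (homOfLE hWy).op (g y)) =
          X.germToFunctionField (U y).1 (g y) := res_germTo hWy _
      have he1 := congrArg (X.germToFunctionField W) he
      have he1' := congrArg (X.germToFunctionField W) he'
      rw [map_mul, hgx, hgy] at he1 he1'
      have hr1 := congrArg (X.germToFunctionField W) hr
      rw [map_mul, map_sub, map_mul, hgx, res_germTo, res_germTo] at hr1
      refine ⟨-(X.presheaf.germ W w hwW (e' * r)), ?_⟩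
      rw [map_neg, algebraMap_germ hwW, map_mul]
      simp only [t]
      rw [eq_comm, div_sub_div _ _ (hg0 x) (hg0 y), div_eq_iff (mul_ne_zero (hg0 x) (hg0 y))]
      linear_combination (X.germToFunctionField W e' * X.germToFunctionField (U y).1 (g y)) * hr1 +
        (X.germToFunctionField (U y).1 (c y) - X.germToFunctionField W e * X.germToFunctionField (U x).1 (c x)) * he1' -
        X.germToFunctionField (U x).1 (c x) * he1
  have hψ : ∀ x, ψ.app (U x).1 (z x) = 0 := fun x => by
    obtain ⟨G, hG⟩ := DomFib.exists_section (U x).1 (t x) (hreg x)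
    have hcg : c x ∈ I.ideal (U x) := by
      rw [hg x, Ideal.mem_span_singleton']
      refine ⟨G, X.germToFunctionField_injective _ ?_⟩
      rw [map_mul, hG]
      exact div_mul_cancel₀ _ (hg0 x)
    rw [← hc x]
    exact (QC.mem_range_kernel_app (ClSub.toSubscheme I) _ _).1 ((QC.mem_range_idealModι_affine I (U x) (c x)).2 hcg)
  refine Scheme.Modules.hom_ext _ _ fun V => ?_
  ext s
  show ψ.app V s = 0
  refine section_eq_of_locally fun w hw => ?_
  obtain ⟨_, ⟨W, hW, rfl⟩, hwW, hWle⟩ := X.isBasis_affineOpens.exists_subset_of_mem_open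
    (show w ∈ ((V ⊓ (U w).1 : X.Opens) : Set X) from ⟨hw, hxU w⟩) (V ⊓ (U w).1).2
  let W' : X.affineOpens := ⟨W, hW⟩
  have hWV : W ≤ V := fun p hp => (hWle hp).1
  have hWU : W ≤ (U w).1 := fun p hp => (hWle hp).2
  refine ⟨W, hWV, hwW, ?_⟩
  have hs : (show Γ(X, W) from (ClSub.idealModι I).app W (res (ClSub.idealMod I) hWV s)) ∈ I.ideal W' :=
    (QC.mem_range_idealModι_affine I W' _).1 ⟨_, rfl⟩
  rw [← I.map_ideal (U := W') (V := U w) hWU, hg w, Ideal.map_span, Set.image_singleton,
    Ideal.mem_span_singleton'] at hs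
  obtain ⟨r, hr⟩ := hs
  have hsr : res (ClSub.idealMod I) hWV s = r • res (ClSub.idealMod I) hWU (z w) := by
    refine Groth.Agent.QC.app_injective_of_mono (ClSub.idealModι I) _ ?_
    rw [TMul.app_smul, ← app_res _ hWU]
    refine hr.symm.trans ?_
    exact congrArg (fun v : Γ(X, (U w).1) => r * X.presheaf.map (homOfLE hWU).op v) (hz w).symm
  rw [map_zero, app_res, hsr, TMul.app_smul, ← app_res, hψ w, map_zero, smul_zero]

include hdim hbir hn in
theorem not_nonempty_conormal_iso (I : X.IdealSheafData) (hI : BlowUp.IsEffCartierIdeal I)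
    (hne : (I.support : Set X).Nonempty) (hZ : ∀ z ∈ (I.support : Set X), f z = IsLocalRing.closedPoint A) :
    IsEmpty ((Scheme.Modules.pullback I.subschemeι).obj (ClSub.idealMod I) ≅ Coh.structureModule I.subscheme) := by
  refine ⟨fun e => ?_⟩
  have h0 := hom_idealMod_quotMod_eq_zero hdim f hbir hn I hI hZ
    ((Scheme.Modules.pullbackPushforwardAdjunction I.subschemeι).homEquiv _ _ e.hom)
  have he : e.hom = 0 := by
    apply ((Scheme.Modules.pullbackPushforwardAdjunction I.subschemeι).homEquiv _ _).injective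
    rw [h0, Adjunction.homEquiv_unit, Functor.map_zero, comp_zero]
  have h1 : (𝟙 (Coh.structureModule I.subscheme)) = 0 := by rw [← e.inv_hom_id, he, comp_zero]
  have h2 : (1 : Γ(I.subscheme, ⊤)) = 0 :=
    congrArg (fun φ => (Scheme.Modules.Hom.app φ ⊤) (show Γ(Coh.structureModule I.subscheme, ⊤) from (1 : Γ(I.subscheme, ⊤)))) h1
  obtain ⟨p, hp⟩ := hne
  obtain ⟨q, -⟩ : p ∈ Set.range I.subschemeι := by rw [I.range_subschemeι]; exact hp
  have h3 := congrArg (I.subscheme.presheaf.germ ⊤ q trivial).hom h2
  rw [map_one, map_zero] at h3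
  exact one_ne_zero h3

end Groth.Agent.ExcVanish
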