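import Mathlib.Algebra.Homology.DerivedCategory.Fractions
import Mathlib.Algebra.Homology.DerivedCategory.TStructure
import Mathlib.Algebra.Homology.DerivedCategory.SingleTriangle
import Mathlib.Algebra.Homology.DerivedCategory.FullyFaithful
import Mathlib.Algebra.Homology.Embedding.CochainComplex

/-!
Maps out of an object placed in degree zero into complexes in nonnegative degrees, and natural endomorphisms.
-/

set_option autoImplicit false
set_option backward.isDefEq.respectTransparency false

universe w v u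

open CategoryTheory CategoryTheory.Limits

noncomputable section

namespace Groth.Agent.ExcVanish

variable {C : Type u} [Category.{v} C] [Abelian C]

/-- a natural endomorphism applied termwise -/
def cxEnd (σ : 𝟭 C ⟶ 𝟭 C) (K : CochainComplex C ℤ) : K ⟶ K where
  f i := σ.app (K.X i)
  comm' i j _ := (σ.naturality (K.d i j)).symm

theorem cxEnd_comp (σ : 𝟭 C ⟶ 𝟭 C) {K L : CochainComplex C ℤ} (g : K ⟶ L) :
    cxEnd σ K ≫ g = g ≫ cxEnd σ L := by
  ext i
  exact (σ.naturality (g.f i)).symm

theorem cxEnd_single (σ : 𝟭 C ⟶ 𝟭 C) (M : C) :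
    cxEnd σ ((CochainComplex.singleFunctor C 0).obj M) = (CochainComplex.singleFunctor C 0).map (σ.app M) := by
  apply HomologicalComplex.from_single_hom_ext
  change σ.app (((HomologicalComplex.single C (ComplexShape.up ℤ) 0).obj M).X 0) =
    ((HomologicalComplex.single C (ComplexShape.up ℤ) 0).map (σ.app M)).f 0
  rw [HomologicalComplex.single_map_f_self]
  rw [← Category.assoc, Iso.eq_comp_inv]
  exact (σ.naturality (HomologicalComplex.singleObjXSelf (ComplexShape.up ℤ) 0 M).hom).symm

theorem cxEnd_shift (σ : 𝟭 C ⟶ 𝟭 C) (K : CochainComplex C ℤ) (n : ℤ) : (cxEnd σ K)⟦n⟧' = cxEnd σ (K⟦n⟧) := by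
  ext i
  rfl

variable [HasDerivedCategory.{w} C]

/-- A morphism in the derived category commutes with a natural endomorphism. -/
theorem Q_cxEnd_comm (σ : 𝟭 C ⟶ 𝟭 C) {K L : CochainComplex C ℤ}
    (φ : DerivedCategory.Q.obj K ⟶ DerivedCategory.Q.obj L) :
    DerivedCategory.Q.map (cxEnd σ K) ≫ φ = φ ≫ DerivedCategory.Q.map (cxEnd σ L) := by
  obtain ⟨Y', g, s, hs, rfl⟩ := DerivedCategory.left_fac φ
  haveI := hs
  rw [← cancel_mono (DerivedCategory.Q.map s)]
  simp only [Category.assoc, IsIso.inv_hom_id, Category.comp_id, ← Functor.map_comp]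
  rw [cxEnd_comp σ g, cxEnd_comp σ s, Functor.map_comp, Functor.map_comp, IsIso.inv_hom_id_assoc]

/-- Maps from an object in degree zero to a complex in degrees `≥ 0` are maps to the cycles. -/
theorem hom_single_eq_zero (M : C) (P : CochainComplex C ℤ) [P.IsStrictlyGE 0]
    (h : ∀ g : M ⟶ P.X 0, g ≫ P.d 0 1 = 0 → g = 0)
    (φ : (DerivedCategory.singleFunctor C 0).obj M ⟶ DerivedCategory.Q.obj P) : φ = 0 := by
  let e : (DerivedCategory.singleFunctor C 0).obj M ≅
      DerivedCategory.Q.obj ((CochainComplex.singleFunctor C 0).obj M) :=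
    (DerivedCategory.singleFunctorIsoCompQ C 0).app M
  suffices e.inv ≫ φ = 0 by
    rw [← cancel_epi e.inv, this, comp_zero]
  generalize e.inv ≫ φ = ψ
  haveI hM1 : ((CochainComplex.singleFunctor C 0).obj M).IsStrictlyGE 0 :=
    inferInstanceAs (CochainComplex.IsStrictlyGE ((HomologicalComplex.single C (ComplexShape.up ℤ) 0).obj M) 0)
  haveI hM2 : ((CochainComplex.singleFunctor C 0).obj M).IsStrictlyLE 0 :=
    inferInstanceAs (CochainComplex.IsStrictlyLE ((HomologicalComplex.single C (ComplexShape.up ℤ) 0).obj M) 0)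
  obtain ⟨X', hX1, hX2, s, hs, g, rfl⟩ := DerivedCategory.right_fac_of_isStrictlyLE_of_isStrictlyGE 0 0 ψ
  haveI := hX1
  haveI := hX2
  haveI := hs
  obtain ⟨N, ⟨a⟩⟩ := CochainComplex.exists_iso_single X' 0
  obtain ⟨t, ht⟩ := (CochainComplex.singleFunctor C 0).map_surjective (a.inv ≫ s)
  haveI : IsIso t := by
    have h1 : IsIso ((DerivedCategory.singleFunctor C 0).map t) := by
      refine (NatIso.isIso_map_iff (DerivedCategory.singleFunctorIsoCompQ C 0) t).2 ?_
      show IsIso (DerivedCategory.Q.map ((CochainComplex.singleFunctor C 0).map t))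
      rw [ht, Functor.map_comp]
      infer_instance
    exact (NatIso.isIso_map_iff (DerivedCategory.singleFunctorCompHomologyFunctorIso C 0) t).1
      (show IsIso ((DerivedCategory.homologyFunctor C 0).map ((DerivedCategory.singleFunctor C 0).map t)) from
        inferInstance)
  haveI : IsIso s := by
    have : IsIso (a.inv ≫ s) := ht ▸ inferInstance
    exact IsIso.of_isIso_comp_left a.inv s
  have hg : inv s ≫ g = 0 := by
    apply HomologicalComplex.from_single_hom_ext
    have hz := h ((HomologicalComplex.singleObjXSelf (ComplexShape.up ℤ) 0 M).inv ≫ (inv s ≫ g).f 0) (by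
      rw [Category.assoc, (inv s ≫ g).comm 0 1]
      simp)
    rw [HomologicalComplex.zero_f, ← cancel_epi (HomologicalComplex.singleObjXSelf (ComplexShape.up ℤ) 0 M).inv,
      comp_zero]
    exact hz
  rw [← DerivedCategory.Q.map_inv, ← Functor.map_comp, hg, Functor.map_zero]

end Groth.Agent.ExcVanish
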