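import Groth.Agent.ExcVanish.BoundGeom

/-!
Functions on the base factoring along every component of the closed fibre.
-/

set_option autoImplicit false
set_option backward.isDefEq.respectTransparency false
set_option backward.isDefEq.respectTransparency.types false
set_option linter.style.haveILetI false

universe u

open CategoryTheory AlgebraicGeometry TopologicalSpace Opposite

noncomputable section

namespace Groth.Agent.ExcVanish

attribute [local instance] nonempty_top

variable {A : Type u} [CommRing A] [IsDomain A] [IsLocalRing A] [IsNoetherianRing A] [IsIntegrallyClosed A]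
  (hdim : ringKrullDim A = 2) {X : Scheme.{u}} (f : X ⟶ Spec (CommRingCat.of A)) [IsProper f] [IsIntegral X]
  (hbir : ∃ U : (Spec (CommRingCat.of A)).Opens, (U : Set (Spec (CommRingCat.of A))).Nonempty ∧ IsIso (f ∣_ U))

include hdim hbir in
theorem isIso_of_fibre_singleton {x : X} (h : f ⁻¹' {IsLocalRing.closedPoint A} = {x}) : IsIso f := by
  have hinj : Function.Injective f := fun p q e => by
    by_cases hp : f p = IsLocalRing.closedPoint A
    · have h1 : p ∈ f ⁻¹' {IsLocalRing.closedPoint A} := hp
      have h2 : q ∈ f ⁻¹' {IsLocalRing.closedPoint A} := e.symm.trans hp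
      rw [h, Set.mem_singleton_iff] at h1 h2
      rw [h1, h2]
    · exact eq_of_map_eq hdim f hbir hp e
  haveI : LocallyQuasiFinite f := LocallyQuasiFinite.of_injective hinj
  haveI : IsFinite f := IsFinite.of_isProper_of_locallyQuasiFinite f
  haveI : IsAffine X := isAffine_of_isAffineHom f
  obtain ⟨U, hU, hUi⟩ := hbir
  haveI := hUi
  haveI : IsIso f.appTop := (ConcreteCategory.isIso_iff_bijective _).2
    (PtBlow.bijective_app_of_birational f RatBlow.isNormal_spec U hU ⊤)
  haveI : IsIso (Spec.map f.appTop) := inferInstance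
  rw [show f = X.isoSpec.hom ≫ Spec.map f.appTop ≫ (Spec (CommRingCat.of A)).isoSpec.inv by
    rw [Scheme.isoSpec_hom_naturality_assoc f, Iso.hom_inv_id, Category.comp_id]]
  infer_instance

include hdim hbir in
/-- A component of the closed fibre of a modification which is not an isomorphism is not a point. -/
theorem genericPoint_component_not_closed (hf : ¬ IsIso f) {C : Set ↥(f ⁻¹' {IsLocalRing.closedPoint A})}
    (hC : C ∈ irreducibleComponents ↥(f ⁻¹' {IsLocalRing.closedPoint A}))
    {x : ↥(f ⁻¹' {IsLocalRing.closedPoint A})} : C ≠ {x} := by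
  intro e
  refine hf (isIso_of_fibre_singleton hdim f hbir (x := (x : X)) ?_)
  haveI : IsLocallyNoetherian X := LocallyOfFiniteType.isLocallyNoetherian f
  haveI : CompactSpace X := QuasiCompact.compactSpace_of_compactSpace f
  haveI : AlgebraicGeometry.IsNoetherian X := {}
  have hfin : (irreducibleComponents ↥(f ⁻¹' {IsLocalRing.closedPoint A})).Finite :=
    NoetherianSpace.finite_irreducibleComponents
  let R := ⋃₀ (irreducibleComponents ↥(f ⁻¹' {IsLocalRing.closedPoint A}) \ {C})
  have hR : IsClosed R := by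
    simp only [R, Set.sUnion_eq_biUnion]
    exact (hfin.diff).isClosed_biUnion fun D hD => isClosed_of_mem_irreducibleComponents D hD.1
  have hxR : x ∉ R := by
    rintro ⟨D, ⟨hD, hne⟩, hxD⟩
    exact hne (hC.eq_of_le hD.1 (by rw [e]; exact Set.singleton_subset_iff.2 hxD)).symm
  have hcl : IsClopen ({x} : Set ↥(f ⁻¹' {IsLocalRing.closedPoint A})) := by
    refine ⟨e ▸ isClosed_of_mem_irreducibleComponents C hC, ?_⟩
    rw [show ({x} : Set ↥(f ⁻¹' {IsLocalRing.closedPoint A})) = Rᶜ from ?_]
    · exact hR.isOpen_compl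
    · ext z
      simp only [Set.mem_singleton_iff, Set.mem_compl_iff]
      constructor
      · rintro rfl; exact hxR
      · intro hz
        have hz' : irreducibleComponent z = C := by
          by_contra hne
          exact hz ⟨_, ⟨irreducibleComponent_mem_irreducibleComponents z, hne⟩, mem_irreducibleComponent⟩
        have := (mem_irreducibleComponent (x := z))
        rw [hz', e] at this
        exact this
  obtain ⟨U, hU, hUi⟩ := hbir
  haveI := hUi
  have hconn := PtBlow.isConnected_preimage f (PtBlow.bijective_app_of_birational f RatBlow.isNormal_spec U hU)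
    (IsLocalRing.closedPoint A)
  haveI : PreconnectedSpace ↥(f ⁻¹' {IsLocalRing.closedPoint A}) := isPreconnected_iff_preconnectedSpace.1 hconn.isPreconnected
  have huniv := (isClopen_iff.1 hcl).resolve_left (Set.singleton_nonempty x).ne_empty
  ext z
  refine ⟨fun hz => ?_, fun hz => ?_⟩
  · have : (⟨z, hz⟩ : ↥(f ⁻¹' {IsLocalRing.closedPoint A})) ∈ ({x} : Set _) := huniv ▸ trivial
    exact congrArg Subtype.val (Set.mem_singleton_iff.1 this)
  · rw [Set.mem_singleton_iff] at hz
    exact hz ▸ x.2

include hdim hbir in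
/-- The factorization along one component. -/
theorem exists_factor_at {x ξ : X} (hx : IsClosed ({x} : Set X)) (hξx : ξ ⤳ x) (hne : ξ ≠ x)
    (hfx : f x = IsLocalRing.closedPoint A) :
    ∃ a : A, a ≠ 0 ∧ a ∈ IsLocalRing.maximalIdeal A ∧ ∀ b : A, ∃ g q : X.presheaf.stalk x,
      g ∈ IsLocalRing.maximalIdeal (X.presheaf.stalk x) ∧
      (X.presheaf.germ ⊤ x trivial).hom (glob f (a * b)) = g * q ∧
      IsUnit ((X.presheaf.stalkSpecializes hξx).hom g) := by
  obtain ⟨_, ⟨W, hW, rfl⟩, hxW, -⟩ :=
    X.isBasis_affineOpens.exists_subset_of_mem_open (Set.mem_univ x) isOpen_univ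
  let V : X.Opens := ⟨{x}ᶜ, hx.isOpen_compl⟩
  have hξW : ξ ∈ W := hξx.mem_open W.2 hxW
  obtain ⟨s, hsV, hξs⟩ := hW.exists_basicOpen_le (V := V) ⟨ξ, hne⟩ hξW
  let g := X.presheaf.germ W x hxW s
  have hgm : g ∈ IsLocalRing.maximalIdeal (X.presheaf.stalk x) := fun hu => by
    have : x ∈ V := hsV ((Scheme.mem_basicOpen X s x hxW).2 hu)
    exact this rfl
  have hgu : IsUnit ((X.presheaf.stalkSpecializes hξx).hom g) := by
    have h1 := (Scheme.mem_basicOpen X s ξ hξW).1 hξs
    have h2 : (X.presheaf.stalkSpecializes hξx).hom g = X.presheaf.germ W ξ hξW s :=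
      congr($(X.presheaf.germ_stalkSpecializes hxW hξx).hom s)
    rw [h2]; exact h1
  set α := algebraMap (X.presheaf.stalk x) X.functionField g
  have hη : f (genericPoint X) ≠ IsLocalRing.closedPoint A := by
    obtain ⟨U, hU, hUi⟩ := id hbir
    haveI := hUi
    intro e
    obtain ⟨w, hw⟩ := (PtBlow.isConnected_preimage f (PtBlow.bijective_app_of_birational f RatBlow.isNormal_spec U hU)
      (⟨⊥, Ideal.isPrime_bot⟩ : PrimeSpectrum A)).nonempty
    have h1 := (genericPoint_specializes w).map f.continuous
    rw [e, Set.mem_singleton_iff.1 hw] at h1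
    have h2 : IsLocalRing.closedPoint A = (⟨⊥, Ideal.isPrime_bot⟩ : PrimeSpectrum A) :=
      (h1.antisymm (IsLocalRing.specializes_closedPoint _)).eq
    have h3 : IsLocalRing.maximalIdeal A = ⊥ := congrArg PrimeSpectrum.asIdeal h2
    rw [ringKrullDim_eq_zero_of_isField (IsLocalRing.isField_iff_maximalIdeal_eq.2 h3)] at hdim
    exact absurd hdim (by decide)
  obtain ⟨c, d, hd, hcd⟩ := exists_repr hdim f hbir hη (r := α)
    ⟨(X.presheaf.stalkSpecializes (genericPoint_specializes x)).hom g, algebraMap_specializes _ _⟩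
  have hd0 : d ≠ 0 := fun e => hd (e ▸ Submodule.zero_mem _)
  have hα0 : α ≠ 0 := by
    refine fun e => ?_
    have hg0 : g = 0 := IsFractionRing.injective (X.presheaf.stalk x) X.functionField (e.trans (map_zero _).symm)
    rw [hg0, map_zero] at hgu
    exact not_isUnit_zero hgu
  have hc0 : c ≠ 0 := fun e => by
    rw [e, map_zero] at hcd
    exact mul_ne_zero hα0 (germ_glob_ne_zero f hbir hd0) hcd
  refine ⟨c, hc0, ?_, fun b => ⟨g, X.presheaf.germ ⊤ x trivial (glob f d) * X.presheaf.germ ⊤ x trivial (glob f b),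
    hgm, ?_, hgu⟩⟩
  · have := mem_of_gA_vn f (x := x) (c := c) (hcd ▸ (mul_comm (gA f d) α) ▸ vn_mul (gA_mem f x d) ⟨g, hgm, rfl⟩)
    rwa [hfx] at this
  · refine IsFractionRing.injective (X.presheaf.stalk x) X.functionField ?_
    refine (algebraMap_germ_glob f x (c * b)).trans ?_
    rw [map_mul, map_mul, map_mul, algebraMap_germ_glob, algebraMap_germ_glob, ← mul_assoc, hcd]

end Groth.Agent.ExcVanish
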