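import Groth.Agent.QC.IdealMod
import Groth.Agent.TMul.CounitGen
import Groth.Agent.FpqcDescent.IdealGlue

/-!
Relatively generated ideals meeting a fibre lie in the ideal of the fibre.
-/

set_option autoImplicit false
set_option backward.isDefEq.respectTransparency false
set_option backward.isDefEq.respectTransparency.types false
set_option linter.style.haveILetI false

universe u

open CategoryTheory CategoryTheory.Limits AlgebraicGeometry TopologicalSpace Opposite
open Groth.Agent.QC (res resO res_res res_self res_smul resO_resO app_res)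

noncomputable section

namespace Groth.Agent.ExcVanish

theorem le_comap_vanishingIdeal {X Y : Scheme.{u}} (f : Y ⟶ X)
    (happ : ∀ U : X.Opens, Function.Surjective (f.app U)) {P : X} (hPc : IsClosed ({P} : Set X))
    (V : Y.IdealSheafData) (hV : PicF.IsInvertible (ClSub.idealMod V))
    (hPV : P ∈ f.base '' (V.support : Set Y))
    (hfree : Epi ((Scheme.Modules.pullbackPushforwardAdjunction f).counit.app (ClSub.idealMod V))) :
    V ≤ (Scheme.IdealSheafData.vanishingIdeal ⟨{P}, hPc⟩).comap f := by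
  classical
  obtain ⟨q, hq, hqP⟩ := hPV
  have key : ∀ y : Y, ∃ W : Y.affineOpens, y ∈ W.1 ∧
      V.ideal W ≤ ((Scheme.IdealSheafData.vanishingIdeal ⟨{P}, hPc⟩).comap f).ideal W := by
    intro y
    obtain ⟨U₀, t₀, W₀, hW₀, hyU₀, hyW₀, hgen⟩ := TMul.exists_section_of_epi_counit f hV hfree y
    obtain ⟨_, ⟨U, hU, rfl⟩, hyU, hUle⟩ := X.isBasis_affineOpens.exists_subset_of_mem_open hyU₀ U₀.2
    obtain ⟨_, ⟨W, hW, rfl⟩, hyW, hWle⟩ := Y.isBasis_affineOpens.exists_subset_of_mem_open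
      (show y ∈ ((W₀ ⊓ f ⁻¹ᵁ U : Y.Opens) : Set Y) from ⟨hyW₀, hyU⟩) (W₀ ⊓ f ⁻¹ᵁ U).2
    have hW0 : W ≤ W₀ := fun p hp => (hWle hp).1
    have hWU : W ≤ f ⁻¹ᵁ U := fun p hp => (hWle hp).2
    have hUU : f ⁻¹ᵁ U ≤ f ⁻¹ᵁ U₀ := fun p hp => hUle hp
    refine ⟨⟨W, hW⟩, hyW, ?_⟩
    rw [Groth.Agent.FpqcDescent.ideal_comap_appLE _ f ⟨U, hU⟩ ⟨W, hW⟩ hWU]
    let t : Γ(ClSub.idealMod V, f ⁻¹ᵁ U) := res (ClSub.idealMod V) hUU t₀
    obtain ⟨u, hu⟩ := happ U (show Γ(Y, f ⁻¹ᵁ U) from (ClSub.idealModι V).app (f ⁻¹ᵁ U) t)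
    have hvan : V.subschemeι.app (f ⁻¹ᵁ U) (f.app U u) = 0 :=
      (QC.mem_range_idealModι V _ _).1 ⟨t, hu.symm⟩
    have humem : u ∈ (Scheme.IdealSheafData.vanishingIdeal ⟨{P}, hPc⟩).ideal ⟨U, hU⟩ := by
      rw [Scheme.IdealSheafData.vanishingIdeal_ideal, PrimeSpectrum.mem_vanishingIdeal]
      intro p hp
      by_contra hup
      have h1 : hU.fromSpec p ∈ X.basicOpen u := by
        change p ∈ hU.fromSpec ⁻¹ᵁ X.basicOpen u
        rw [hU.fromSpec_preimage_basicOpen]
        exact hup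
      rw [show hU.fromSpec p = P from hp, ← hqP] at h1
      have h2 : q ∈ Y.basicOpen (f.app U u) := by
        rw [← Scheme.preimage_basicOpen]
        exact h1
      obtain ⟨w, hw⟩ : q ∈ Set.range V.subschemeι := by rw [V.range_subschemeι]; exact hq
      have h3 : w ∈ V.subschemeι ⁻¹ᵁ Y.basicOpen (f.app U u) := by
        change V.subschemeι w ∈ Y.basicOpen (f.app U u)
        rw [hw]; exact h2
      rw [Scheme.preimage_basicOpen, hvan, Scheme.basicOpen_zero] at h3
      exact h3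
    intro s hs
    obtain ⟨s', hs'⟩ := (QC.mem_range_idealModι_affine V ⟨W, hW⟩ s).2 hs
    obtain ⟨c, hc⟩ := (hgen W hW0).2 s'
    have e : res (ClSub.idealMod V) hW0 (res (ClSub.idealMod V) hW₀ t₀) = res (ClSub.idealMod V) hWU t := by
      simp only [t]
      rw [res_res, res_res]
    change c • res (ClSub.idealMod V) hW0 (res (ClSub.idealMod V) hW₀ t₀) = s' at hc
    rw [e] at hc
    rw [← hs', ← hc, TMul.app_smul, ← app_res]
    refine Ideal.mul_mem_left _ c ?_
    refine (congrArg (· ∈ _) (congrArg (fun v : Γ(Y, f ⁻¹ᵁ U) =>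
      (show Γ(Y, W) from Y.presheaf.map (homOfLE hWU).op v)) hu)).mp ?_
    exact Ideal.mem_map_of_mem _ humem
  choose W hyW hW using key
  exact Scheme.IdealSheafData.le_of_iSup_eq_top W
    (eq_top_iff.2 fun y _ => Opens.mem_iSup.2 ⟨y, hyW y⟩) hW

end Groth.Agent.ExcVanish
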