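import Groth.Agent.ExcVanish.DerHom
import Groth.Agent.DerPush.Triangle
import Groth.Agent.PicBdd.Resolve
import Groth.Agent.SiteCoh.Basic

/-!
`Hom(M[-1], Rf_* F)` for a module `M` killed by a function of the base.
-/

set_option autoImplicit false
set_option backward.isDefEq.respectTransparency false
set_option linter.style.haveILetI false

universe u

open CategoryTheory CategoryTheory.Limits AlgebraicGeometry Pretriangulated

attribute [local instance] HasDerivedCategory.standard

noncomputable section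

namespace Groth.Agent.ExcVanish

variable {X Y : Scheme.{u}} (f : X ⟶ Y)

/-- scalars as a natural endomorphism -/
def scalNat (b : Γ(Y, ⊤)) : 𝟭 Y.Modules ⟶ 𝟭 Y.Modules where
  app M := PicBdd.scal b M
  naturality _ _ φ := (PicBdd.scal_comp b φ).symm

theorem pushforward_map_scal (b : Γ(Y, ⊤)) (M : X.Modules) :
    (Scheme.Modules.pushforward f).map (PicBdd.scal (f.appTop b) M) =
      PicBdd.scal b ((Scheme.Modules.pushforward f).obj M) := by
  refine Scheme.Modules.hom_ext _ _ fun U => ?_
  ext m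
  show QC.resO X (le_top : f ⁻¹ᵁ U ≤ ⊤) (f.appTop b) • (show Γ(M, f ⁻¹ᵁ U) from m) =
    (f.app U (QC.resO Y (le_top : U ≤ ⊤) b)) • (show Γ(M, f ⁻¹ᵁ U) from m)
  congr 1
  exact (congrArg (fun g => g b) (f.naturality (homOfLE (le_top : U ≤ ⊤)).op)).symm

theorem map_cxEnd (b : Γ(Y, ⊤)) (I : CochainComplex X.Modules ℤ) :
    ((Scheme.Modules.pushforward f).mapHomologicalComplex (ComplexShape.up ℤ)).map
        (cxEnd (scalNat (f.appTop b)) I) =
      cxEnd (scalNat b) (((Scheme.Modules.pushforward f).mapHomologicalComplex (ComplexShape.up ℤ)).obj I) := by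
  ext1 i
  exact pushforward_map_scal f b (I.X i)

variable [DCoh.HasRpush f]

/-- the comparison `Q(f_* K) ⟶ Rf_* Q(K)` -/
def pushQ : (Scheme.Modules.pushforward f).mapHomologicalComplex (ComplexShape.up ℤ) ⋙ DerivedCategory.Q ⟶
    DerivedCategory.Q ⋙ DCoh.Rpush f :=
  Functor.whiskerLeft _ (DerivedCategory.quotientCompQhIso Y.Modules).inv ≫ (Functor.associator _ _ _).inv ≫
    Functor.whiskerRight ((Scheme.Modules.pushforward f).mapHomotopyCategoryFactors (ComplexShape.up ℤ)).inv
      DerivedCategory.Qh ≫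
    (Functor.associator _ _ _).hom ≫ Functor.whiskerLeft _ (DerPush.rpushUnit f) ≫ (Functor.associator _ _ _).inv ≫
    Functor.whiskerRight (DerivedCategory.quotientCompQhIso X.Modules).hom (DCoh.Rpush f)

theorem isIso_pushQ_app (I : CochainComplex X.Modules ℤ) [I.IsKInjective] : IsIso ((pushQ f).app I) := by
  haveI : IsIso ((DerPush.rpushUnit f).app ((HomotopyCategory.quotient _ (ComplexShape.up ℤ)).obj I)) :=
    DerPush.isIso_rpushUnit_app f (I := (HomotopyCategory.quotient _ (ComplexShape.up ℤ)).obj I) ‹I.IsKInjective›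
  dsimp [pushQ]
  infer_instance

/-- `Rf_*` of a module by a complex in degrees `≥ 0`, compatibly with scalars. -/
theorem exists_model (b : Γ(Y, ⊤)) (F : X.Modules) : ∃ (P : CochainComplex Y.Modules ℤ) (_ : P.IsStrictlyGE 0)
    (e : (DCoh.Rpush f).obj (DCoh.inD X F) ≅ DerivedCategory.Q.obj P),
    (DCoh.Rpush f).map ((DerivedCategory.singleFunctor X.Modules 0).map (PicBdd.scal (f.appTop b) F)) ≫ e.hom =
      e.hom ≫ DerivedCategory.Q.map (cxEnd (scalNat b) P) ∧
    ∀ (M : Y.Modules), (∀ g : M ⟶ (Scheme.Modules.pushforward f).obj F, g = 0) →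
      ∀ g : M ⟶ P.X 0, g ≫ P.d 0 1 = 0 → g = 0 := by
  haveI : HasInjectiveResolutions X.Modules := inferInstance
  let R := injectiveResolution F
  let G := (Scheme.Modules.pushforward f).mapHomologicalComplex (ComplexShape.up ℤ)
  haveI : R.cochainComplex.IsKInjective := CochainComplex.isKInjective_of_injective _ 0
  haveI hGE : CochainComplex.IsStrictlyGE (G.obj R.cochainComplex) 0 := by
    rw [CochainComplex.isStrictlyGE_iff]
    exact fun i hi => (Scheme.Modules.pushforward f).map_isZero
      (CochainComplex.isZero_of_isStrictlyGE R.cochainComplex 0 i hi)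
  haveI := isIso_pushQ_app f R.cochainComplex
  haveI : IsIso (DerivedCategory.Q.map R.ι') := (DerivedCategory.isIso_Q_map_iff_quasiIso _ _).2 inferInstance
  let k : DCoh.inD X F ⟶ DerivedCategory.Q.obj R.cochainComplex :=
    (DerivedCategory.singleFunctorIsoCompQ X.Modules 0).hom.app F ≫ DerivedCategory.Q.map R.ι'
  haveI : IsIso k := inferInstanceAs (IsIso (_ ≫ _))
  have hk : (DerivedCategory.singleFunctor X.Modules 0).map (PicBdd.scal (f.appTop b) F) ≫ k =
      k ≫ DerivedCategory.Q.map (cxEnd (scalNat (f.appTop b)) R.cochainComplex) := by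
    have hn := (DerivedCategory.singleFunctorIsoCompQ X.Modules 0).hom.naturality (PicBdd.scal (f.appTop b) F)
    refine ((Category.assoc _ _ _).symm.trans (congrArg (· ≫ _) hn)).trans ?_
    simp only [k, Category.assoc, Functor.comp_map, ← Functor.map_comp]
    rw [← cxEnd_comp, cxEnd_single]
    rfl
  let e : (DCoh.Rpush f).obj (DCoh.inD X F) ≅ DerivedCategory.Q.obj (G.obj R.cochainComplex) :=
    (DCoh.Rpush f).mapIso (asIso k) ≪≫ (asIso ((pushQ f).app R.cochainComplex)).symm
  refine ⟨G.obj R.cochainComplex, hGE, e, ?_, fun M hM g hg => ?_⟩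
  · simp only [e, Iso.trans_hom, Functor.mapIso_hom, asIso_hom, Iso.symm_hom, asIso_inv]
    rw [← Category.assoc, ← Functor.map_comp, hk, Functor.map_comp, Category.assoc, Category.assoc]
    congr 1
    rw [IsIso.eq_inv_comp, ← Category.assoc]
    have hn := (pushQ f).naturality (cxEnd (scalNat (f.appTop b)) R.cochainComplex)
    simp only [Functor.comp_map] at hn
    rw [← hn, Category.assoc, IsIso.hom_inv_id, Category.comp_id]
    exact congrArg DerivedCategory.Q.map (map_cxEnd f b R.cochainComplex)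
  · let T := Scheme.Modules.pushforward f
    let S : ShortComplex X.Modules := ShortComplex.mk (R.ι.f 0) (R.cocomplex.d 0 1)
      R.ι_f_zero_comp_complex_d
    haveI : Mono S.f := by dsimp [S]; infer_instance
    haveI : T.Additive := inferInstance
    haveI : PreservesFiniteLimits T := inferInstance
    have hT : (S.map T).Exact := R.exact₀.map_of_mono_of_preservesKernel T inferInstance inferInstance
    haveI : Mono (S.map T).f := inferInstanceAs (Mono (T.map S.f))
    let c0 := R.cochainComplexXIso 0 0 rfl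
    have h0 : (g ≫ T.map c0.hom) ≫ (S.map T).g = 0 := by
      have hd : R.cochainComplex.d 0 1 =
          c0.hom ≫ R.cocomplex.d 0 1 ≫ (R.cochainComplexXIso 1 1 rfl).inv :=
        R.cochainComplex_d 0 1 0 1 rfl rfl
      change g ≫ T.map (R.cochainComplex.d 0 1) = 0 at hg
      rw [hd, Functor.map_comp, Functor.map_comp, ← Category.assoc, ← Category.assoc] at hg
      rw [← cancel_mono (T.map (R.cochainComplexXIso 1 1 rfl).inv), zero_comp]
      exact hg
    have h1 : g ≫ T.map c0.hom = 0 := by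
      rw [← hT.lift_f _ h0, hM (hT.lift _ h0), zero_comp]
    rwa [← cancel_mono (T.map c0.hom), zero_comp]

/-- `Hom(M[-1], Rf_* O) = 0` when `b` kills `M` and `O/bO` has no maps from `M` on `Y`. -/
theorem hom_shift_rpush_eq_zero (b : Γ(Y, ⊤)) (F : X.Modules) [Mono (PicBdd.scal (f.appTop b) F)]
    (M : Y.Modules) (hb : PicBdd.scal b M = 0)
    (hM : ∀ g : M ⟶ (Scheme.Modules.pushforward f).obj (cokernel (PicBdd.scal (f.appTop b) F)), g = 0)
    (φ : (DCoh.inD Y M)⟦(-1 : ℤ)⟧ ⟶ (DCoh.Rpush f).obj (DCoh.inD X F)) : φ = 0 := by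
  let c : DCoh.inD Y M ≅ ((DCoh.inD Y M)⟦(-1 : ℤ)⟧)⟦(1 : ℤ)⟧ :=
    ((shiftFunctorCompIsoId (DCoh.D Y) (-1 : ℤ) 1 (by norm_num)).app (DCoh.inD Y M)).symm
  suffices c.hom ≫ φ⟦(1 : ℤ)⟧' = 0 by
    apply (shiftFunctor (DCoh.D Y) (1 : ℤ)).map_injective
    rw [Functor.map_zero, ← cancel_epi c.hom, this, comp_zero]
  generalize c.hom ≫ φ⟦(1 : ℤ)⟧' = ψ
  let i := PicBdd.scal (f.appTop b) F
  let S : ShortComplex X.Modules := ShortComplex.mk i (cokernel.π i) (cokernel.condition i)
  have hS : S.ShortExact := ShortComplex.ShortExact.mk'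
    (ShortComplex.exact_of_g_is_cokernel _ (cokernelIsCokernel i)) (inferInstanceAs (Mono i))
    (inferInstanceAs (Epi (cokernel.π i)))
  obtain ⟨P, hP, e, he, -⟩ := exists_model f b F
  have hψ : ψ ≫ ((DCoh.Rpush f).map ((DerivedCategory.singleFunctor X.Modules 0).map i))⟦(1 : ℤ)⟧' = 0 := by
    let j := (DerivedCategory.singleFunctorIsoCompQ Y.Modules 0).app M
    let d := (shiftFunctor (DCoh.D Y) (1 : ℤ)).mapIso e ≪≫
      ((DerivedCategory.Q (C := Y.Modules)).commShiftIso (1 : ℤ)).symm.app P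
    have h0 := Q_cxEnd_comm (scalNat b) (j.inv ≫ ψ ≫ d.hom)
    rw [cxEnd_single, show (scalNat b).app M = 0 from hb, Functor.map_zero, Functor.map_zero, zero_comp] at h0
    rw [← cancel_epi j.inv, comp_zero, ← cancel_mono d.hom, zero_comp]
    have hd : ((DCoh.Rpush f).map ((DerivedCategory.singleFunctor X.Modules 0).map i))⟦(1 : ℤ)⟧' ≫ d.hom =
        d.hom ≫ DerivedCategory.Q.map (cxEnd (scalNat b) (P⟦(1 : ℤ)⟧)) := by
      simp only [d, Iso.trans_hom, Functor.mapIso_hom]
      rw [← Functor.map_comp_assoc, he, Functor.map_comp_assoc, Category.assoc]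
      congr 1
      rw [← cxEnd_shift]
      exact ((DerivedCategory.Q (C := Y.Modules)).commShiftIso (1 : ℤ)).inv.naturality (cxEnd (scalNat b) P)
    simp only [Category.assoc] at h0 ⊢
    rw [hd]
    exact h0.symm
  obtain ⟨w, hT⟩ := DerPush.exists_rpush_triangle f _ _ _ hS.singleTriangle_distinguished
  obtain ⟨χ, hχ⟩ := Triangle.coyoneda_exact₁ _ hT ψ hψ
  obtain ⟨P', hP', e', -, h'⟩ := exists_model f b (cokernel i)
  have : χ = 0 := by
    rw [← cancel_mono e'.hom, zero_comp]
    exact hom_single_eq_zero M P' (h' M hM) _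
  exact hχ.trans ((congrArg (· ≫ _) this).trans zero_comp)

end Groth.Agent.ExcVanish
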