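import Groth.Agent.RatBlow.Sections
import Groth.Agent.RatBlow.Modif
import Groth.Agent.Devissage.Power
import Groth.Agent.CurveRR.Zero

/-!
Twisting a quasi-coherent module with vanishing `H¹` by generated invertible modules.
-/

set_option autoImplicit false
set_option backward.isDefEq.respectTransparency false
set_option backward.isDefEq.respectTransparency.types false
set_option linter.style.haveILetI false

universe u

open CategoryTheory CategoryTheory.Limits AlgebraicGeometry TopologicalSpace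
open Groth.Agent.QC (res res_res res_self)
open TMul (tm IsGen homOf)

noncomputable section

namespace Groth.Agent.ExcVanish

variable (A : Type u) [CommRing A] {X : Scheme.{u}} [X.Over (Spec (CommRingCat.of A))] [IsNoetherian X]
  (hv : ∀ M : X.Modules, Coh.IsQCoh M → Subsingleton (Coh.HH X M 2))

include A hv in
theorem h1_tensor_qcoh {N L : X.Modules} (hN : Coh.IsQCoh N) (hL : PicF.IsInvertible L)
    {r : ℕ} (s : Fin r → Γ(L, ⊤)) (hgen : ∀ x : X, ∃ j, x ∈ CohB1.genLocus L (homOf (s j)))
    (h : Subsingleton (Coh.HH X N 1)) : Subsingleton (Coh.HH X (CohB1.tensorMod N L) 1) := by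
  let Φ : (⨁ fun _ : Fin r => N) ⟶ CohB1.tensorMod N L := biproduct.desc fun j => NormGen.mulR N (s j)
  haveI : Epi Φ := InvGen.epi_of_locally _ fun U t x hx => by
    obtain ⟨i, hi⟩ := hgen x
    let V := U ⊓ CohB1.genLocus L (TMul.homOf (s i))
    have he : IsGen (res L (le_top : V ≤ ⊤) (s i)) := by
      have := ((ProjMor.isGen_homOf (s i)).res (inf_le_right : V ≤ _))
      rwa [res_res] at this
    obtain ⟨m, hm⟩ := (TMul.tm_bijective (M := N) he V le_rfl).2 (res _ inf_le_left t)
    refine ⟨V, inf_le_left, ⟨hx, hi⟩, (biproduct.ι (fun _ : Fin r => N) i).app V m, ?_⟩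
    change (biproduct.ι (fun _ : Fin r => N) i ≫ Φ).app V m = _
    rw [biproduct.ι_desc, NormGen.mulR_app, ← hm]
    simp only [res_self]
  have hP : Coh.IsQCoh (⨁ fun _ : Fin r => N) := Devissage.isQCoh_biproduct _ fun _ => hN
  haveI : N.IsQuasicoherent := hN
  have hT : Coh.IsQCoh (CohB1.tensorMod N L) := TMul.isQCoh_tensor hL
  haveI : Subsingleton (Coh.HH X (⨁ fun _ : Fin r => N) 1) := CohQC.subsingleton_hh_biproduct _ 1 fun _ => h
  exact (H1Triv.surjective_of_h_next A (W7Proj.shortExact_kernel Φ) 1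
    (hv _ (QC.isQCoh_kernel hP hT Φ))).subsingleton

include A hv in
theorem h1_tensorPow_qcoh {N L : X.Modules} (hN : Coh.IsQCoh N) (hL : PicF.IsInvertible L)
    {r : ℕ} (s : Fin r → Γ(L, ⊤)) (hgen : ∀ x : X, ∃ j, x ∈ CohB1.genLocus L (homOf (s j)))
    (h : Subsingleton (Coh.HH X N 1)) : ∀ n : ℕ,
      Subsingleton (Coh.HH X (CohB1.tensorMod N (CohB1.tensorPow L n)) 1)
  | 0 => CohQC.hh_subsingleton_of_iso (TMul.commIso N _ ≪≫ TMul.leftUnitIso N).symm 1 h
  | n + 1 => by
    haveI : N.IsQuasicoherent := hN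
    exact CohQC.hh_subsingleton_of_iso (TMul.assocIso N (CohB1.tensorPow L n) L) 1
      (h1_tensor_qcoh A hv (TMul.isQCoh_tensor (TMul.isInvertible_tensorPow hL n)) hL s hgen
        (h1_tensorPow_qcoh hN hL s hgen h n))

end Groth.Agent.ExcVanish
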